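import Cfsg.Agent.H788.Rl.Aut_m3
import Cfsg.Agent.H386.Rg.AlphaA_m3
import Cfsg.Agent.H578.RC.Lin_m3
import Mathlib
import Cfsg.Agent.H951.Lin
import Cfsg.Agent.H823.O8S.Main
import Cfsg.Agent.H372.O8R.Ord_mg_m3
import Cfsg.Agent.H906.Cover_m3
import Cfsg.Agent.FastGrp
import Cfsg.Agent.Prune
set_option linter.all false
prune_inst 0x7ffdeef9bbb879dfdf7f7e7faededffdf9bfbfffa4dff9cbffe063ff8b9f4b02cdc5f3ad0fea13fe1ed7c01410e87b43fdffca3fea6bdc7ffffd5ff41ffbfe0ffdf7b50951dc88b40fbc0fff03f0778e7f3fffffffffffffffffffffffffffbeffffffffffff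
open scoped Cfsg.Agent.FastGrp

-- part: H332/O8R/Rs
section
/-!
# S3691, row `PΩ⁺₈(q)`: SPIN: facts common to `geo_sp` and `geo_om` (helper332)
-/

set_option autoImplicit false
set_option linter.unusedSectionVars false

namespace Cfsg.Agent.H332.O8R

open Module QuadraticMap Cfsg.Agent.H953.O8R
open scoped commutatorElement

variable {F V Γ T G : Type} [Field F] [Fintype F] [AddCommGroup V] [Module F V] [FiniteDimensional F V] [Group Γ] [Group T] [Group G]
  {Q : QuadraticForm F V} {ρ : Γ →* Module.End F V} {π : Γ →* T} {f : G →* T} {t : Fin 3 → G}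
  {L : Fin 3 → Subgroup G} {r : Fin 3 → Module.End F V} {c : F}

theorem sys_polar (hS : Sys Q ρ π) (g : Γ) (u v : V) : polar Q (ρ g u) (ρ g v) = polar Q u v := by
  unfold polar
  rw [← map_add, hS.iso, hS.iso, hS.iso]

theorem rho_inv (ρ : Γ →* Module.End F V) (g : Γ) (v : V) : ρ g⁻¹ (ρ g v) = v := by
  rw [← Module.End.mul_apply, ← map_mul, inv_mul_cancel, map_one, Module.End.one_apply]

theorem rho_inv' (ρ : Γ →* Module.End F V) (g : Γ) (v : V) : ρ g (ρ g⁻¹ v) = v := by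
  rw [← Module.End.mul_apply, ← map_mul, mul_inv_cancel, map_one, Module.End.one_apply]

theorem sys_polar_inv (hS : Sys Q ρ π) (g : Γ) (u v : V) : polar Q (ρ g u) v = polar Q u (ρ g⁻¹ v) := by
  rw [← sys_polar hS g u, rho_inv']

theorem perf_map (f : G →* T) {M : Subgroup G} (hM : ⁅M, M⁆ = M) : ⁅M.map f, M.map f⁆ = M.map f := by
  rw [← Subgroup.map_commutator, hM]

/-- lifts in the perfect cover of `M` -/
theorem exists_lift (hS : Sys Q ρ π) {M : Subgroup G} (hM : ⁅M, M⁆ = M) {x : G} (hx : x ∈ M) :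
    ∃ h ∈ hat π (M.map f), π h = f x :=
  exists_hat hS.surj (perf_map f hM) (Subgroup.mem_map_of_mem f hx)

theorem hat_perf' (hS : Sys Q ρ π) {M : Subgroup G} (hM : ⁅M, M⁆ = M) :
    ⁅hat π (M.map f), hat π (M.map f)⁆ = hat π (M.map f) :=
  hat_perf (hS.central) hS.surj (perf_map f hM)

/-- the elements of `G` with a lift fixing `v` -/
def fl (ρ : Γ →* Module.End F V) (π : Γ →* T) (f : G →* T) (v : V) : Subgroup G where
  carrier := {g | ∃ x : Γ, π x = f g ∧ ρ x v = v}
  one_mem' := ⟨1, by rw [map_one, map_one], by rw [map_one, Module.End.one_apply]⟩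
  mul_mem' := by
    rintro g g' ⟨x, hx, hv⟩ ⟨x', hx', hv'⟩
    exact ⟨x * x', by rw [map_mul, map_mul, hx, hx'], by rw [map_mul, Module.End.mul_apply, hv', hv]⟩
  inv_mem' := by
    rintro g ⟨x, hx, hv⟩
    refine ⟨x⁻¹, by rw [map_inv, map_inv, hx], ?_⟩
    conv_lhs => rw [← hv]
    exact rho_inv ρ x v

/-- a perfect subgroup whose perfect lift fixes `v` -/
theorem le_fl (hS : Sys Q ρ π) {M : Subgroup G} (hM : ⁅M, M⁆ = M) {v : V} (h : ∀ x ∈ hat π (M.map f), ρ x v = v) :
    M ≤ fl ρ π f v := by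
  intro g hg
  obtain ⟨x, hx, he⟩ := exists_lift (f := f) hS hM hg
  exact ⟨x, he, h x hx⟩

/-- the lift of a subgroup of `fl` fixes `v` -/
theorem fix_of_fl (hS : Sys Q ρ π) {K : Subgroup G} {v : V} (hK : K ≤ fl ρ π f v) : ∀ x ∈ hat π (K.map f), ρ x v = v := by
  -- all lifts multiply `v` by a scalar
  have h1 : ∀ x ∈ (K.map f).comap π, ∃ e : F, ρ x v = e • v := by
    intro x hx
    obtain ⟨g, hg, he⟩ := Subgroup.mem_map.1 (Subgroup.mem_comap.1 hx)
    obtain ⟨y, hy, hv⟩ := hK hg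
    obtain ⟨e, hz⟩ := (hS.ker (x * y⁻¹)).1 (by rw [map_mul, map_inv, hy, ← he, mul_inv_cancel])
    refine ⟨e, ?_⟩
    have e1 : x = x * y⁻¹ * y := by group
    rw [e1, map_mul, Module.End.mul_apply, hv, hz]
  let N : Subgroup Γ :=
    { carrier := {x | ρ x v = v}
      one_mem' := by show ρ 1 v = v; rw [map_one, Module.End.one_apply]
      mul_mem' := fun {a b} (ha : ρ a v = v) (hb : ρ b v = v) => by
        show ρ (a * b) v = v
        rw [map_mul, Module.End.mul_apply, hb, ha]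
      inv_mem' := fun {a} (ha : ρ a v = v) => by
        show ρ a⁻¹ v = v
        conv_lhs => rw [← ha]
        exact rho_inv ρ a v }
  have h2 : hat π (K.map f) ≤ N := by
    rw [hat, Subgroup.commutator_le]
    intro x hx y hy
    show ρ ⁅x, y⁆ v = v
    obtain ⟨a, ha⟩ := h1 x hx
    obtain ⟨b, hb⟩ := h1 y hy
    have e1 : x * y = ⁅x, y⁆ * (y * x) := by rw [commutatorElement_def]; group
    have e2 : ρ (x * y) v = (a * b) • v := by
      rw [map_mul, Module.End.mul_apply, hb, map_smul, ha, smul_smul, mul_comm]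
    have e3 : ρ (y * x) v = (a * b) • v := by
      rw [map_mul, Module.End.mul_apply, ha, map_smul, hb, smul_smul]
    rw [e1, map_mul, Module.End.mul_apply, e3, map_smul] at e2
    by_cases hab : a * b = 0
    · have e4 : v = 0 := by
        rw [hab, zero_smul] at e3
        rw [← rho_inv ρ (y * x) v, e3, map_zero]
      rw [e4, map_zero]
    · have e4 := congrArg (fun w => (a * b)⁻¹ • w) e2
      simpa only [inv_smul_smul₀ hab] using e4
  exact fun x hx => h2 hx

theorem rs_mem (i : Fin 3) {v : V} (hv : v ∈ LinearMap.range (r i - 1)) : r i v ∈ LinearMap.range (r i - 1) := by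
  obtain ⟨w, rfl⟩ := hv
  refine ⟨r i w, ?_⟩
  simp only [LinearMap.sub_apply, Module.End.one_apply, map_sub]

theorem ker_iff {i : Fin 3} {v : V} : v ∈ LinearMap.ker (r i - 1) ↔ r i v = v := by
  rw [LinearMap.mem_ker, LinearMap.sub_apply, Module.End.one_apply, sub_eq_zero]

/-- the plane is orthogonal to the fixed space -/
theorem rs_perp_ker (hR : RS Q ρ π f t L r c) (i : Fin 3) {u w : V} (hu : u ∈ LinearMap.range (r i - 1))
    (hw : w ∈ LinearMap.ker (r i - 1)) : polar Q u w = 0 := by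
  obtain ⟨v, rfl⟩ := hu
  rw [ker_iff] at hw
  rw [LinearMap.sub_apply, Module.End.one_apply, sub_eq_add_neg, polar_add_left, polar_neg_left]
  have h1 : polar Q (r i v) (r i w) = polar Q v w := polar_map (hR.iso i) v w
  rw [hw] at h1
  rw [h1]
  ring

theorem rs_split (hR : RS Q ρ π f t L r c) (i : Fin 3) (v : V) :
    ∃ p ∈ LinearMap.range (r i - 1), ∃ k ∈ LinearMap.ker (r i - 1), v = p + k := by
  have h1 : v ∈ LinearMap.range (r i - 1) ⊔ LinearMap.ker (r i - 1) := by
    rw [(hR.compl i).sup_eq_top]; exact Submodule.mem_top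
  obtain ⟨p, hp, k, hk, e⟩ := Submodule.mem_sup.1 h1
  exact ⟨p, hp, k, hk, e.symm⟩

theorem rs_disj (hR : RS Q ρ π f t L r c) (i : Fin 3) {v : V} (h1 : v ∈ LinearMap.range (r i - 1))
    (h2 : v ∈ LinearMap.ker (r i - 1)) : v = 0 :=
  (Submodule.disjoint_def.1 (hR.compl i).disjoint) v h1 h2

/-- the fixed space is the orthogonal complement of the plane -/
theorem mem_ker_iff (hS : Sys Q ρ π) (hR : RS Q ρ π f t L r c) (i : Fin 3) {w : V} :
    w ∈ LinearMap.ker (r i - 1) ↔ ∀ u ∈ LinearMap.range (r i - 1), polar Q u w = 0 := by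
  refine ⟨fun hw u hu => rs_perp_ker hR i hu hw, fun h => ?_⟩
  obtain ⟨p, hp, k, hk, rfl⟩ := rs_split hR i w
  have hp0 : p = 0 := by
    apply hS.nondeg
    intro u
    obtain ⟨p', hp', k', hk', rfl⟩ := rs_split hR i u
    have h1 := h p' hp'
    rw [polar_add_right, rs_perp_ker hR i hp' hk, add_zero] at h1
    rw [polar_add_left, h1, polar_comm Q k' p, rs_perp_ker hR i hp hk', add_zero]
  rw [hp0, zero_add]
  exact hk

/-- the plane contains a nonsingular vector -/
theorem rs_ne (hS : Sys Q ρ π) (hR : RS Q ρ π f t L r c) (i : Fin 3) : ∃ v ∈ LinearMap.range (r i - 1), Q v ≠ 0 := by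
  by_contra hcon
  push Not at hcon
  have h1 : ∀ u ∈ LinearMap.range (r i - 1), u = 0 := by
    intro u hu
    apply rs_disj hR i hu
    rw [mem_ker_iff hS hR]
    intro v hv
    unfold polar
    rw [hcon _ (Submodule.add_mem _ hv hu), hcon _ hv, hcon _ hu]
    ring
  have h2 : LinearMap.range (r i - 1) = ⊥ := (Submodule.eq_bot_iff _).2 h1
  have h3 := hR.dim i
  rw [h2, finrank_bot] at h3
  omega

/-- `± r i` has no nonzero fixed vector in the plane -/
theorem rs_no (hR : RS Q ρ π f t L r c) (i : Fin 3) {e : F} (he : e = 1 ∨ e = -1) {v : V}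
    (hv : v ∈ LinearMap.range (r i - 1)) (h : e • r i v = v) : v = 0 := by
  by_contra hv0
  have hee : e * e = 1 := by rcases he with rfl | rfl <;> ring
  have h1 : r i v = e • v := by
    conv_rhs => rw [← h]
    rw [smul_smul, hee, one_smul]
  have h2 := hR.quad i v hv
  rw [h1, map_smul, h1, smul_smul, smul_smul] at h2
  have h3 : (e * e - c * e + 1) • v = 0 := by
    rw [add_smul, sub_smul, one_smul, h2]
    abel
  exact hR.irr e ((smul_eq_zero.1 h3).resolve_right hv0)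

/-- a perfect group acting on the plane is trivial on it -/
theorem rs_O2 (hS : Sys Q ρ π) (hR : RS Q ρ π f t L r c) (i : Fin 3) {H : Subgroup Γ} (hH : ⁅H, H⁆ = H)
    (hinv : ∀ h ∈ H, ∀ v ∈ LinearMap.range (r i - 1), ρ h v ∈ LinearMap.range (r i - 1)) :
    ∀ h ∈ H, ∀ v ∈ LinearMap.range (r i - 1), ρ h v = v :=
  O2 hH hR.irr (hR.dim i) (fun _ hv => rs_mem i hv) (fun v _ => hR.iso i v) (hR.quad i) (rs_ne hS hR i)
    (fun h _ v _ => hS.iso h v) hinv

/-- a vector fixed by a lift of `t i` is orthogonal to the plane -/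
theorem fix_ker (hR : RS Q ρ π f t L r c) (i : Fin 3) {h : Γ} (hh : π h = f (t i)) {v : V} (hv : ρ h v = v) :
    v ∈ LinearMap.ker (r i - 1) := by
  obtain ⟨e, he, hr⟩ := hR.lift i h hh
  obtain ⟨p, hp, k, hk, rfl⟩ := rs_split hR i v
  rw [hr, map_add, ker_iff.1 hk, smul_add] at hv
  have h1 : e • r i p - p = 0 := by
    apply rs_disj hR i
    · exact Submodule.sub_mem _ (Submodule.smul_mem _ _ (rs_mem i hp)) hp
    · have h2 : e • r i p - p = k - e • k := by
        rw [sub_eq_sub_iff_add_eq_add, hv, add_comm]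
      rw [h2]
      exact Submodule.sub_mem _ hk (Submodule.smul_mem _ _ hk)
  have h2 := rs_no hR i he hp (sub_eq_zero.1 h1)
  rw [h2, zero_add]
  exact hk

/-- a perfect group containing a lift of `t i` is not trivial on the plane -/
theorem not_triv (hS : Sys Q ρ π) (hR : RS Q ρ π f t L r c) (i : Fin 3) {M : Subgroup G} (hM : ⁅M, M⁆ = M)
    (ht : t i ∈ M) : ¬ ∀ h ∈ hat π (M.map f), ∀ v ∈ LinearMap.range (r i - 1), ρ h v = v := by
  intro hcon
  obtain ⟨h, hh, he⟩ := exists_lift (f := f) hS hM ht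
  obtain ⟨v, hv, hq⟩ := rs_ne hS hR i
  apply hq
  rw [rs_disj hR i hv (fix_ker hR i he (hcon h hh v hv)), QuadraticMap.map_zero]

/-- the orthogonal complement of the three planes -/
def p4 (r : Fin 3 → Module.End F V) : Submodule F V :=
  LinearMap.ker (r 0 - 1) ⊓ LinearMap.ker (r 1 - 1) ⊓ LinearMap.ker (r 2 - 1)

theorem mem_p4 {v : V} : v ∈ p4 r ↔ ∀ i, v ∈ LinearMap.ker (r i - 1) := by
  unfold p4
  rw [Submodule.mem_inf, Submodule.mem_inf]
  refine ⟨fun h i => ?_, fun h => ⟨⟨h 0, h 1⟩, h 2⟩⟩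
  fin_cases i
  · exact h.1.1
  · exact h.1.2
  · exact h.2

theorem le_ker (hS : Sys Q ρ π) (hR : RS Q ρ π f t L r c) {i j : Fin 3} (hij : i ≠ j) :
    LinearMap.range (r i - 1) ≤ LinearMap.ker (r j - 1) := by
  intro v hv
  rw [mem_ker_iff hS hR]
  intro u hu
  exact hR.perp j i hij.symm u hu v hv

theorem finrank_inf_compl {A P K : Submodule F V} (hPK : IsCompl P K) (hA : P ≤ A) :
    finrank F ↥(A ⊓ K) + finrank F P = finrank F A := by
  have h1 := Submodule.finrank_sup_add_finrank_inf_eq (A ⊓ K) P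
  have h2 : (A ⊓ K) ⊓ P = ⊥ := by
    rw [inf_assoc, hPK.symm.inf_eq_bot, inf_bot_eq]
  have h3 : (A ⊓ K) ⊔ P = A := by
    rw [sup_comm, inf_comm A K, ← sup_inf_assoc_of_le K hA, hPK.sup_eq_top, top_inf_eq]
  rw [h2, h3, finrank_bot, add_zero] at h1
  exact h1.symm

theorem finrank_p4 (hS : Sys Q ρ π) (hR : RS Q ρ π f t L r c) : finrank F (p4 r) = 2 := by
  have h0 := finrank_inf_compl (hR.compl 0) (le_top : LinearMap.range (r 0 - 1) ≤ ⊤)
  rw [finrank_top, hS.dim, hR.dim, top_inf_eq] at h0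
  have h1 := finrank_inf_compl (hR.compl 1) (le_ker hS hR (by decide : (1 : Fin 3) ≠ 0))
  rw [hR.dim] at h1
  have h2 := finrank_inf_compl (A := LinearMap.ker (r 0 - 1) ⊓ LinearMap.ker (r 1 - 1)) (hR.compl 2)
    (le_inf (le_ker hS hR (by decide)) (le_ker hS hR (by decide)))
  rw [hR.dim] at h2
  unfold p4
  omega

/-- every vector is a sum of vectors of the three planes and of `p4` -/
theorem split4 (hS : Sys Q ρ π) (hR : RS Q ρ π f t L r c) (v : V) :
    ∃ p : Fin 3 → V, (∀ i, p i ∈ LinearMap.range (r i - 1)) ∧ ∃ k ∈ p4 r, v = p 0 + p 1 + p 2 + k := by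
  obtain ⟨p0, hp0, k0, hk0, rfl⟩ := rs_split hR 0 v
  obtain ⟨p1, hp1, k1, hk1, rfl⟩ := rs_split hR 1 k0
  obtain ⟨p2, hp2, k2, hk2, rfl⟩ := rs_split hR 2 k1
  have e10 := le_ker hS hR (by decide : (1 : Fin 3) ≠ 0) hp1
  have e20 := le_ker hS hR (by decide : (2 : Fin 3) ≠ 0) hp2
  have e21 := le_ker hS hR (by decide : (2 : Fin 3) ≠ 1) hp2
  have k11 : k2 ∈ LinearMap.ker (r 1 - 1) := by
    have := Submodule.sub_mem _ hk1 e21
    rwa [add_sub_cancel_left] at this
  have k10 : k2 ∈ LinearMap.ker (r 0 - 1) := by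
    have := Submodule.sub_mem _ (Submodule.sub_mem _ hk0 e10) e20
    rwa [add_sub_cancel_left, add_sub_cancel_left] at this
  refine ⟨![p0, p1, p2], fun i => ?_, k2, ?_, ?_⟩
  · fin_cases i
    · exact hp0
    · exact hp1
    · exact hp2
  · rw [mem_p4]
    intro i
    fin_cases i
    · exact k10
    · exact k11
    · exact hk2
  · show p0 + (p1 + (p2 + k2)) = p0 + p1 + p2 + k2
    abel

/-- `p4` is nondegenerate -/
theorem p4_nondeg (hS : Sys Q ρ π) (hR : RS Q ρ π f t L r c) {w : V} (hw : w ∈ p4 r)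
    (h : ∀ u ∈ p4 r, polar Q u w = 0) : w = 0 := by
  apply hS.nondeg
  intro u
  obtain ⟨p, hp, k, hk, rfl⟩ := split4 hS hR u
  rw [mem_p4] at hw
  rw [polar_add_left, polar_add_left, polar_add_left, h k hk, rs_perp_ker hR 0 (hp 0) (hw 0),
    rs_perp_ker hR 1 (hp 1) (hw 1), rs_perp_ker hR 2 (hp 2) (hw 2)]
  ring

/-- in `p4` the orthogonal complement of a nonzero vector is a line -/
theorem p4_line (hS : Sys Q ρ π) (hR : RS Q ρ π f t L r c) {y w v : V} (hy : y ∈ p4 r) (hy0 : y ≠ 0) (hw : w ∈ p4 r)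
    (hw0 : w ≠ 0) (hv : v ∈ p4 r) (h1 : polar Q y w = 0) (h2 : polar Q y v = 0) : v ∈ Submodule.span F {w} := by
  obtain ⟨z, hz, hz0⟩ : ∃ z ∈ p4 r, polar Q y z ≠ 0 := by
    by_contra hcon
    push Not at hcon
    exact hy0 (p4_nondeg hS hR hy fun u hu => by rw [polar_comm]; exact hcon u hu)
  have hli : LinearIndependent F ![(⟨w, hw⟩ : p4 r), ⟨z, hz⟩] := by
    rw [LinearIndependent.pair_iff]
    intro a b h
    have h' : a • w + b • z = 0 := congrArg Subtype.val h
    have h3 : polar Q y (a • w + b • z) = 0 := by rw [h', polar_zero_right]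
    rw [polar_add_right, polar_smul_right, polar_smul_right, h1, smul_zero, zero_add] at h3
    have hb : b = 0 := (smul_eq_zero.1 h3).resolve_right hz0
    rw [hb, zero_smul, add_zero] at h'
    exact ⟨(smul_eq_zero.1 h').resolve_right hw0, hb⟩
  have hsp := hli.span_eq_top_of_card_eq_finrank (by rw [finrank_p4 hS hR]; rfl)
  have hvs : (⟨v, hv⟩ : p4 r) ∈ Submodule.span F (Set.range ![(⟨w, hw⟩ : p4 r), ⟨z, hz⟩]) := by
    rw [hsp]; exact Submodule.mem_top
  rw [Matrix.range_cons, Matrix.range_cons, Matrix.range_empty, Set.union_empty, Set.singleton_union,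
    Submodule.mem_span_pair] at hvs
  obtain ⟨a, b, h⟩ := hvs
  have h' : a • w + b • z = v := congrArg Subtype.val h
  rw [← h', polar_add_right, polar_smul_right, polar_smul_right, h1, smul_zero, zero_add] at h2
  have hb : b = 0 := (smul_eq_zero.1 h2).resolve_right hz0
  rw [hb, zero_smul, add_zero] at h'
  rw [← h']
  exact Submodule.smul_mem _ _ (Submodule.mem_span_singleton_self w)

end Cfsg.Agent.H332.O8R
end

-- part: H332/O8R/GeoSp
section
/-!
# S3691, row `PΩ⁺₈(q)`: SPIN: `PSp₆(q)` lifts to the stabiliser of a nonsingular vector (helper332)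
-/

set_option autoImplicit false
set_option linter.unusedSectionVars false

namespace Cfsg.Agent.H332.O8R

open Module QuadraticMap Cfsg.Agent.H953.O8R
open scoped commutatorElement

variable {F V Γ T G : Type} [Field F] [Fintype F] [AddCommGroup V] [Module F V] [FiniteDimensional F V] [Group Γ] [Group T] [Group G]
  {Q : QuadraticForm F V} {ρ : Γ →* Module.End F V} {π : Γ →* T} {f : G →* T} {n : ℕ} {t : Fin 3 → G}
  {L : Fin 3 → Subgroup G} {r : Fin 3 → Module.End F V} {c : F}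

/-- the space generated by the translates of the plane `P i` -/
def xs (ρ : Γ →* Module.End F V) (r : Fin 3 → Module.End F V) (H : Subgroup Γ) (i : Fin 3) : Submodule F V :=
  Submodule.span F {x | ∃ m ∈ H, ∃ v ∈ LinearMap.range (r i - 1), x = ρ m v}

theorem mem_xs {H : Subgroup Γ} {i : Fin 3} {m : Γ} (hm : m ∈ H) {v : V} (hv : v ∈ LinearMap.range (r i - 1)) :
    ρ m v ∈ xs ρ r H i := Submodule.subset_span ⟨m, hm, v, hv, rfl⟩

theorem le_xs {H : Subgroup Γ} {i : Fin 3} : LinearMap.range (r i - 1) ≤ xs ρ r H i := by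
  intro v hv
  have h := mem_xs (ρ := ρ) (r := r) (i := i) (H.one_mem) hv
  rwa [map_one, Module.End.one_apply] at h

/-- `xs` is orthogonal to every `H`-fixed vector orthogonal to the plane -/
theorem xs_perp (hS : Sys Q ρ π) {H : Subgroup Γ} {i : Fin 3} {w : V} (hw : ∀ m ∈ H, ρ m w = w)
    (hp : ∀ u ∈ LinearMap.range (r i - 1), polar Q u w = 0) {x : V} (hx : x ∈ xs ρ r H i) : polar Q x w = 0 := by
  unfold xs at hx
  induction hx using Submodule.span_induction with
  | mem x hx =>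
    obtain ⟨m, hm, v, hv, rfl⟩ := hx
    rw [sys_polar_inv hS, hw _ (H.inv_mem hm)]
    exact hp v hv
  | zero => exact polar_zero_left Q w
  | add x y _ _ hx hy => rw [polar_add_left, hx, hy, add_zero]
  | smul a x _ hx => rw [polar_smul_left, hx, smul_zero]

/-- elements commuting with `H` and trivial on the plane are trivial on `xs` -/
theorem xs_fix {H : Subgroup Γ} {i : Fin 3} {g : Γ} (hg : ∀ m ∈ H, g * m = m * g)
    (ht : ∀ v ∈ LinearMap.range (r i - 1), ρ g v = v) {x : V} (hx : x ∈ xs ρ r H i) : ρ g x = x := by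
  unfold xs at hx
  induction hx using Submodule.span_induction with
  | mem x hx =>
    obtain ⟨m, hm, v, hv, rfl⟩ := hx
    rw [← Module.End.mul_apply, ← map_mul, hg m hm, map_mul, Module.End.mul_apply, ht v hv]
  | zero => exact map_zero _
  | add x y _ _ hx hy => rw [map_add, hx, hy]
  | smul a x _ hx => rw [map_smul, hx]

/-- **GEO-SP** -/
theorem geo_sp (hS : Sys Q ρ π) (_hf : Function.Injective f) {M : Fin 3 → Subgroup G} (hD : DSp G n t L M)
    (hR : RS Q ρ π f t L r c) :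
    ∃ w : V, Q w ≠ 0 ∧ ∀ v, (∀ x ∈ hat π ((⊤ : Subgroup G).map f), ρ x v = v) ↔ v ∈ Submodule.span F {w} := by
  -- notation
  let Mh : Fin 3 → Subgroup Γ := fun i => hat π ((M i).map f)
  let Lh : Fin 3 → Subgroup Γ := fun i => hat π ((L i).map f)
  have hMp : ∀ i, ⁅Mh i, Mh i⁆ = Mh i := fun i => hat_perf' hS (hD.perf i)
  have hML : ∀ i j, i ≠ j → Mh j ≤ Lh i := fun i j hij => hat_mono (Subgroup.map_mono (hD.le i j hij))
  have hcom : ∀ i, ∀ g ∈ Lh i, ∀ m ∈ Mh i, g * m = m * g := by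
    intro i g hg m hm
    refine hat_comm (hS.central) (fun m' hm' => ?_) hm
    obtain ⟨y, hy, hye⟩ := Subgroup.mem_map.1 hm'
    obtain ⟨x, hx, hxe⟩ := Subgroup.mem_map.1 (mem_of_hat hg)
    rw [← hye, ← hxe, ← map_mul, ← map_mul, hD.cent i x hx y hy]
  -- step 1: `L i` is trivial on `X i`
  have h1 : ∀ i, ∀ g ∈ Lh i, ∀ x ∈ xs ρ r (Mh i) i, ρ g x = x := fun i g hg x hx =>
    xs_fix (hcom i g hg) (fun v hv => hR.triv i g hg v hv) hx
  -- step 2: orthogonality
  have h2 : ∀ i j, i ≠ j → ∀ x ∈ xs ρ r (Mh i) i, x ∈ LinearMap.ker (r j - 1) := by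
    intro i j hij x hx
    rw [mem_ker_iff hS hR]
    intro u hu
    rw [polar_comm]
    exact xs_perp hS (fun m hm => hR.triv j m (hML j i hij.symm hm) u hu) (fun v hv => hR.perp i j hij v hv u hu) hx
  have h2' : ∀ i j, i ≠ j → ∀ x ∈ xs ρ r (Mh i) i, ∀ y ∈ xs ρ r (Mh j) j, polar Q x y = 0 := by
    intro i j hij x hx y hy
    refine xs_perp hS (fun m hm => h1 j m (hML j i hij.symm hm) y hy) (fun u hu => ?_) hx
    rw [polar_comm]
    exact xs_perp hS (fun m hm => hR.triv i m (hML i j hij hm) u hu) (fun v hv => hR.perp j i hij.symm v hv u hu) hy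
  -- step 3
  have h3 : ∀ i, ∃ y ∈ xs ρ r (Mh i) i, y ≠ 0 ∧ y ∈ LinearMap.ker (r i - 1) := by
    intro i
    by_contra hcon
    push Not at hcon
    apply not_triv (f := f) hS hR i (hD.perf i) (hD.mem i)
    refine rs_O2 hS hR i (hMp i) (fun h hh v hv => ?_)
    obtain ⟨p, hp, k, hk, e⟩ := rs_split hR i (ρ h v)
    have hkX : k ∈ xs ρ r (Mh i) i := by
      have e1 : k = ρ h v - p := by rw [e]; abel
      rw [e1]
      exact Submodule.sub_mem _ (mem_xs hh hv) (le_xs hp)
    have hk0 : k = 0 := by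
      by_contra hk0
      exact hcon k hkX hk0 hk
    rw [e, hk0, add_zero]
    exact hp
  choose y hyX hy0 hyk using h3
  have hy4 : ∀ i, y i ∈ p4 r := by
    intro i
    rw [mem_p4]
    intro j
    by_cases hij : i = j
    · rw [← hij]; exact hyk i
    · exact h2 i j hij (y i) (hyX i)
  have hyy : ∀ i j, i ≠ j → polar Q (y i) (y j) = 0 := fun i j hij => h2' i j hij _ (hyX i) _ (hyX j)
  -- step 4: they are parallel
  have h4 : ∀ i, y i ∈ Submodule.span F {y 0} := by
    intro i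
    by_cases h0 : i = 0
    · rw [h0]; exact Submodule.mem_span_singleton_self _
    · obtain ⟨k, hk0, hki⟩ : ∃ k : Fin 3, k ≠ 0 ∧ k ≠ i := by
        revert h0
        fin_cases i
        · intro h; exact absurd rfl h
        · intro _; exact ⟨2, by decide, by decide⟩
        · intro _; exact ⟨1, by decide, by decide⟩
      exact p4_line hS hR (hy4 k) (hy0 k) (hy4 0) (hy0 0) (hy4 i) (hyy k 0 hk0) (hyy k i hki)
  obtain ⟨w, hw⟩ : ∃ w, w = y 0 := ⟨_, rfl⟩
  have hw0 : w ≠ 0 := by rw [hw]; exact hy0 0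
  have hw4 : w ∈ p4 r := by rw [hw]; exact hy4 0
  obtain ⟨b, hb⟩ := Submodule.mem_span_singleton.1 (h4 1)
  rw [← hw] at hb
  have hb0 : b ≠ 0 := fun h => hy0 1 (by rw [← hb, h, zero_smul])
  have hww : polar Q w w = 0 := by
    have h := hyy 0 1 (by decide)
    rw [← hw, ← hb, polar_smul_right] at h
    exact (smul_eq_zero.1 h).resolve_left hb0
  have hwX0 : w ∈ xs ρ r (Mh 0) 0 := by rw [hw]; exact hyX 0
  have hwX1 : w ∈ xs ρ r (Mh 1) 1 := by
    have h : w = b⁻¹ • y 1 := by rw [← hb, inv_smul_smul₀ hb0]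
    rw [h]
    exact Submodule.smul_mem _ _ (hyX 1)
  have hXw : ∀ k ∈ xs ρ r (Mh 0) 0, k ∈ LinearMap.ker (r 0 - 1) → k ∈ Submodule.span F {w} := by
    intro k hk hk0
    have hk4 : k ∈ p4 r := by
      rw [mem_p4]
      intro j
      by_cases hj : 0 = j
      · rw [← hj]; exact hk0
      · exact h2 0 j hj k hk
    refine p4_line hS hR (hy4 1) (hy0 1) hw4 hw0 hk4 ?_ ?_
    · rw [hw]; exact hyy 1 0 (by decide)
    · rw [polar_comm]; exact h2' 0 1 (by decide) k hk _ (hyX 1)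
  -- step 5
  have hQw : Q w ≠ 0 := by
    intro hQ
    apply not_triv (f := f) hS hR 0 (hD.perf 0) (hD.mem 0)
    intro h hh v hv
    refine RAD (hMp 0) hR.irr (hR.dim 0) (fun _ hv => rs_mem 0 hv) (fun v _ => hR.iso 0 v) (hR.quad 0) (rs_ne hS hR 0)
      (hR.compl 0) (mem_p4.1 hw4 0) hQ (fun v hv => rs_perp_ker hR 0 hv (mem_p4.1 hw4 0)) (fun h _ v => hS.iso h v) ?_ ?_ h hh v
      (Submodule.mem_sup_left hv)
    · intro h hh v hv
      obtain ⟨p, hp, k, hk, e⟩ := rs_split hR 0 (ρ h v)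
      have hkX : k ∈ xs ρ r (Mh 0) 0 := by
        have e1 : k = ρ h v - p := by rw [e]; abel
        rw [e1]
        exact Submodule.sub_mem _ (mem_xs hh hv) (le_xs hp)
      rw [e]
      exact Submodule.add_mem _ (Submodule.mem_sup_left hp) (Submodule.mem_sup_right (hXw k hkX hk))
    · intro h hh
      rw [h1 1 h (hML 1 0 (by decide) hh) w hwX1]
      exact Submodule.mem_span_singleton_self w
  -- step 6
  have h6 : ∀ x ∈ hat π ((⊤ : Subgroup G).map f), ρ x w = w := by
    refine fix_of_fl hS ?_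
    rw [← hD.top]
    exact sup_le (le_fl hS (hD.rot.perf 0) fun x hx => h1 0 x hx w hwX0) (le_fl hS (hD.rot.perf 1) fun x hx => h1 1 x hx w hwX1)
  refine ⟨w, hQw, fun v => ⟨fun hv => ?_, fun hv x hx => ?_⟩⟩
  · -- step 7
    have hv4 : v ∈ p4 r := by
      rw [mem_p4]
      intro i
      obtain ⟨h, hh, he⟩ := exists_lift (f := f) hS (hD.perf i) (hD.mem i)
      exact fix_ker hR i he (hv h (hat_mono (Subgroup.map_mono le_top) hh))
    refine p4_line hS hR hw4 hw0 hw4 hw0 hv4 hww ?_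
    exact xs_perp hS (fun m hm => hv m (hat_mono (Subgroup.map_mono le_top) hm))
      (fun u hu => rs_perp_ker hR 0 hu (mem_p4.1 hv4 0)) hwX0
  · obtain ⟨a, rfl⟩ := Submodule.mem_span_singleton.1 hv
    rw [map_smul, h6 x hx]

end Cfsg.Agent.H332.O8R
end

-- part: H442/O8R/Base
section
/-!
# S3691, row `PΩ⁺₈(q)`, SPIN, GEO-OM: basic facts (helper442)
-/

set_option autoImplicit false
set_option linter.unusedSectionVars false

namespace Cfsg.Agent.H442.O8R

open Module QuadraticMap Cfsg.Agent.H953.O8R Cfsg.Agent.H578.RC Cfsg.Agent.LieClassical.OrthCore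
open scoped commutatorElement

variable {F V Γ T G : Type} [Field F] [Fintype F] [AddCommGroup V] [Module F V] [FiniteDimensional F V] [Group Γ] [Group T] [Group G]
  {Q : QuadraticForm F V} {ρ : Γ →* Module.End F V} {π : Γ →* T} {f : G →* T} {n : ℕ} {t : Fin 3 → G}
  {L : Fin 3 → Subgroup G} {r : Fin 3 → Module.End F V} {c : F}

/-! ### The representation -/

theorem mul_ap (g h : Γ) (v : V) : ρ (g * h) v = ρ g (ρ h v) := by rw [map_mul]; rfl

theorem one_ap (v : V) : ρ 1 v = v := by rw [map_one]; rfl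

theorem inv_ap (g : Γ) (v : V) : ρ g⁻¹ (ρ g v) = v := by rw [← mul_ap, inv_mul_cancel, one_ap]

theorem ap_inv (g : Γ) (v : V) : ρ g (ρ g⁻¹ v) = v := by rw [← mul_ap, mul_inv_cancel, one_ap]

section sys

variable (hS : Sys Q ρ π)

include hS

theorem nd : Nondeg Q := fun v hv => hS.nondeg v fun u => by rw [polar_comm]; exact hv u

theorem pol (g : Γ) (u v : V) : polar Q (ρ g u) (ρ g v) = polar Q u v := by
  rw [polar, polar, ← map_add, hS.iso, hS.iso, hS.iso]

theorem pol_inv (g : Γ) (u v : V) : polar Q (ρ g u) v = polar Q u (ρ g⁻¹ v) := by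
  rw [← pol hS g u, ap_inv]

/-- fixed vectors are orthogonal to the commutator space -/
theorem pol_fix {g : Γ} {v : V} (hv : ρ g v = v) (a : V) : polar Q (ρ g a - a) v = 0 := by
  rw [polar_sub_left]
  nth_rewrite 1 [← hv]
  rw [pol hS, sub_self]

theorem faithful {g : Γ} (h : ∀ v, ρ g v = v) : g = 1 := by
  apply hS.inj
  rw [map_one]
  exact LinearMap.ext h

end sys

/-! ### Spans of translates -/

/-- the span of the translates -/
def Sp (ρ : Γ →* Module.End F V) (H : Subgroup Γ) (P : Submodule F V) : Submodule F V :=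
  Submodule.span F {x | ∃ m ∈ H, ∃ v ∈ P, x = ρ m v}

section sp

variable {H : Subgroup Γ} {P : Submodule F V}

theorem mem_Sp {m : Γ} (hm : m ∈ H) {v : V} (hv : v ∈ P) : ρ m v ∈ Sp ρ H P := Submodule.subset_span ⟨m, hm, v, hv, rfl⟩

theorem le_Sp : P ≤ Sp ρ H P := fun v hv => by
  have := mem_Sp (ρ := ρ) (one_mem H) hv
  rwa [one_ap] at this

theorem Sp_inv {m : Γ} (hm : m ∈ H) {x : V} (hx : x ∈ Sp ρ H P) : ρ m x ∈ Sp ρ H P := by
  induction hx using Submodule.span_induction with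
  | mem x hx =>
    obtain ⟨g, hg, v, hv, rfl⟩ := hx
    rw [← mul_ap]
    exact mem_Sp (mul_mem hm hg) hv
  | zero => rw [map_zero]; exact Submodule.zero_mem _
  | add x y _ _ hx hy => rw [map_add]; exact Submodule.add_mem _ hx hy
  | smul c x _ hx => rw [map_smul]; exact Submodule.smul_mem _ _ hx

theorem Sp_perp (hS : Sys Q ρ π) {u : V} (h1 : ∀ m ∈ H, ρ m u = u) (h2 : ∀ p ∈ P, polar Q p u = 0) {x : V}
    (hx : x ∈ Sp ρ H P) : polar Q x u = 0 := by
  induction hx using Submodule.span_induction with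
  | mem x hx =>
    obtain ⟨g, hg, v, hv, rfl⟩ := hx
    rw [pol_inv hS, h1 _ (inv_mem hg), h2 v hv]
  | zero => rw [polar_zero_left]
  | add x y _ _ hx hy => rw [polar_add_left, hx, hy, add_zero]
  | smul c x _ hx => rw [polar_smul_left, hx, smul_zero]

theorem Sp_fix {y : Γ} (h1 : ∀ m ∈ H, y * m = m * y) (h2 : ∀ p ∈ P, ρ y p = p) {x : V} (hx : x ∈ Sp ρ H P) :
    ρ y x = x := by
  induction hx using Submodule.span_induction with
  | mem x hx =>
    obtain ⟨g, hg, v, hv, rfl⟩ := hx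
    rw [← mul_ap, h1 g hg, mul_ap, h2 v hv]
  | zero => rw [map_zero]
  | add x y _ _ hx hy => rw [map_add, hx, hy]
  | smul c x _ hx => rw [map_smul, hx]

end sp

/-! ### The planes -/

section rs

variable (hS : Sys Q ρ π) (h2 : (2 : F) ≠ 0) (hR : RS Q ρ π f t L r c)

include hR

theorem rpol (i : Fin 3) (u v : V) : polar Q (r i u) (r i v) = polar Q u v := by
  rw [polar, polar, ← map_add, hR.iso, hR.iso, hR.iso]

theorem mem_ker {i : Fin 3} {v : V} : v ∈ LinearMap.ker (r i - 1) ↔ r i v = v := by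
  rw [LinearMap.mem_ker, LinearMap.sub_apply, sub_eq_zero]; rfl

theorem mem_P (i : Fin 3) (a : V) : r i a - a ∈ LinearMap.range (r i - 1) := ⟨a, rfl⟩

theorem perp_ker {i : Fin 3} {p k : V} (hp : p ∈ LinearMap.range (r i - 1)) (hk : r i k = k) : polar Q p k = 0 := by
  obtain ⟨a, rfl⟩ := hp
  change polar Q (r i a - a) k = 0
  rw [polar_sub_left]
  nth_rewrite 1 [← hk]
  rw [rpol hR, sub_self]

theorem exists_dec (i : Fin 3) (v : V) : ∃ p ∈ LinearMap.range (r i - 1), ∃ k, r i k = k ∧ v = p + k := by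
  have h1 : v ∈ LinearMap.range (r i - 1) ⊔ LinearMap.ker (r i - 1) := by
    rw [(hR.compl i).sup_eq_top]; exact Submodule.mem_top
  obtain ⟨p, hp, k, hk, rfl⟩ := Submodule.mem_sup.1 h1
  exact ⟨p, hp, k, (mem_ker hR).1 hk, rfl⟩

theorem inf_zero {i : Fin 3} {v : V} (hv : v ∈ LinearMap.range (r i - 1)) (hk : r i v = v) : v = 0 := by
  have h1 : v ∈ LinearMap.range (r i - 1) ⊓ LinearMap.ker (r i - 1) := ⟨hv, (mem_ker hR).2 hk⟩
  rw [(hR.compl i).inf_eq_bot] at h1
  exact h1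

include hS in
theorem P_nd {i : Fin 3} {p : V} (hp : p ∈ LinearMap.range (r i - 1))
    (h : ∀ v ∈ LinearMap.range (r i - 1), polar Q v p = 0) : p = 0 := by
  apply hS.nondeg
  intro u
  obtain ⟨v, hv, k, hk, rfl⟩ := exists_dec hR i u
  rw [polar_add_left, h v hv, polar_comm, perp_ker hR hp hk, add_zero]

include hS in
/-- the orthogonal space of a plane -/
theorem fix_iff {i : Fin 3} {v : V} : r i v = v ↔ ∀ p ∈ LinearMap.range (r i - 1), polar Q p v = 0 := by
  refine ⟨fun h p hp => perp_ker hR hp h, fun h => ?_⟩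
  obtain ⟨p, hp, k, hk, rfl⟩ := exists_dec hR i v
  have h1 : p = 0 := by
    apply P_nd hS hR hp
    intro v hv
    have h2 := h v hv
    rw [polar_add_right, perp_ker hR hv hk, add_zero] at h2
    exact h2
  rw [h1, zero_add, hk]

theorem r_mem {i : Fin 3} {v : V} (hv : v ∈ LinearMap.range (r i - 1)) : r i v ∈ LinearMap.range (r i - 1) := by
  have h1 := Submodule.add_mem _ (mem_P hR i v) hv
  rwa [sub_add_cancel] at h1

theorem P_ne (i : Fin 3) : ∃ p ∈ LinearMap.range (r i - 1), p ≠ 0 := by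
  have h1 : LinearMap.range (r i - 1) ≠ ⊥ := by
    intro h
    have h2 := hR.dim i
    rw [h, finrank_bot] at h2
    exact absurd h2 (by norm_num)
  obtain ⟨p, hp, hp0⟩ := Submodule.exists_mem_ne_zero_of_ne_bot h1
  exact ⟨p, hp, hp0⟩

/-- no eigenvectors -/
theorem no_eig {i : Fin 3} {v : V} (hv : v ∈ LinearMap.range (r i - 1)) {a : F} (h : r i v = a • v) : v = 0 := by
  by_contra h0
  have h1 := hR.quad i v hv
  rw [h, map_smul, h, smul_smul, smul_smul] at h1
  have h3 : (a * a - c * a + 1) • v = 0 := by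
    rw [add_smul, sub_smul, h1, one_smul]
    abel
  rcases smul_eq_zero.1 h3 with h4 | h4
  · exact hR.irr a h4
  · exact h0 h4

/-- a lift of `t i` is not trivial on the plane -/
theorem lift_ne {i : Fin 3} {h : Γ} (hh : π h = f (t i)) (htr : ∀ v ∈ LinearMap.range (r i - 1), ρ h v = v) : False := by
  obtain ⟨e, he, hl⟩ := hR.lift i h hh
  obtain ⟨p, hp, hp0⟩ := P_ne hR i
  have h1 := htr p hp
  rw [hl] at h1
  rcases he with rfl | rfl
  · exact hp0 (no_eig hR hp (a := 1) (by rw [one_smul] at h1; rw [one_smul]; exact h1))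
  · exact hp0 (no_eig hR hp (a := -1) (by
      rw [neg_smul, one_smul] at h1 ⊢
      exact neg_eq_iff_eq_neg.1 h1))

include h2 in
/-- vectors fixed by a lift of `t i` are orthogonal to the plane -/
theorem fix_lift {i : Fin 3} {h : Γ} (hh : π h = f (t i)) {v : V} (hv : ρ h v = v) : r i v = v := by
  obtain ⟨e, he, hl⟩ := hR.lift i h hh
  rw [hl] at hv
  rcases he with rfl | rfl
  · rwa [one_smul] at hv
  obtain ⟨p, hp, k, hk, rfl⟩ := exists_dec hR i v
  rw [map_add, hk, smul_add, neg_smul, one_smul, neg_smul, one_smul] at hv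
  have h3 : -(r i p + p) = (2 : F) • k := by
    have h4 : -(r i p) = p + k + k := sub_eq_iff_eq_add.1 (by rw [sub_eq_add_neg]; exact hv)
    rw [neg_add, h4, two_smul]
    abel
  have h5 : (2 : F) • k = 0 := by
    apply inf_zero hR (i := i)
    · rw [← h3]
      exact Submodule.neg_mem _ (Submodule.add_mem _ (r_mem hR hp) hp)
    · rw [map_smul, hk]
  have hk0 : k = 0 := (smul_eq_zero.1 h5).resolve_left h2
  have hp0 : p = 0 := by
    apply no_eig hR hp (a := -1)
    rw [h5, neg_eq_zero] at h3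
    rw [neg_smul, one_smul]
    exact eq_neg_of_add_eq_zero_left h3
  rw [hk0, hp0, add_zero, map_zero]

include hS h2 in
/-- the planes are anisotropic -/
theorem P_ani {i : Fin 3} {v : V} (hv : v ∈ LinearMap.range (r i - 1)) (h0 : Q v = 0) : v = 0 := by
  by_contra hne
  have h1 : polar Q v (r i v) = 0 := by
    have e1 := rpol hR i (r i v) v
    rw [hR.quad i v hv, polar_sub_left, polar_smul_left, QuadraticMap.polar_self, hR.iso, h0, smul_zero, smul_zero,
      zero_sub] at e1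
    have e2 : polar Q (r i v) v = polar Q v (r i v) := polar_comm _ _ _
    rw [e2] at e1
    have e3 : (2 : F) * polar Q v (r i v) = 0 := by linear_combination -e1
    exact (mul_eq_zero.1 e3).resolve_left h2
  apply hne
  apply P_nd hS hR hv
  -- `v`, `r v` span the plane
  have hli : LinearIndependent F ![v, r i v] := by
    rw [LinearIndependent.pair_iff' hne]
    intro a ha
    exact hne (no_eig hR hv ha.symm)
  have hsp : Submodule.span F (Set.range ![v, r i v]) = LinearMap.range (r i - 1) := by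
    apply Submodule.eq_of_le_of_finrank_le
    · rw [Submodule.span_le]
      rintro _ ⟨j, rfl⟩
      fin_cases j
      · exact hv
      · exact r_mem hR hv
    · rw [hR.dim i, finrank_span_eq_card hli]
      simp
  intro w hw
  rw [← hsp, Matrix.range_cons, Matrix.range_cons, Matrix.range_empty, Set.union_empty, Set.singleton_union,
    Submodule.mem_span_pair] at hw
  obtain ⟨a, b, rfl⟩ := hw
  rw [polar_add_left, polar_smul_left, polar_smul_left, QuadraticMap.polar_self, h0, polar_comm _ _ v, h1]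
  simp

end rs

end Cfsg.Agent.H442.O8R
end

-- part: H442/O8R/GeoA
section
/-!
# S3691, row `PΩ⁺₈(q)`, SPIN, GEO-OM: the space `X` (helper442)
-/

set_option autoImplicit false
set_option linter.unusedSectionVars false

namespace Cfsg.Agent.H442.O8R

open Module QuadraticMap Cfsg.Agent.H953.O8R Cfsg.Agent.H578.RC Cfsg.Agent.LieClassical.OrthCore
open scoped commutatorElement

variable {F V Γ T G : Type} [Field F] [Fintype F] [AddCommGroup V] [Module F V] [FiniteDimensional F V] [Group Γ] [Group T] [Group G]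
  {Q : QuadraticForm F V} {ρ : Γ →* Module.End F V} {π : Γ →* T} {f : G →* T} {n : ℕ} {t : Fin 3 → G}
  {L : Fin 3 → Subgroup G} {r : Fin 3 → Module.End F V} {c : F}

/-- the perfect lift of `M` -/
abbrev Mh (π : Γ →* T) (f : G →* T) (M : Subgroup G) : Subgroup Γ := hat π (M.map f)

/-- perfect subgroups of `Γ` preserving a plane are trivial on it -/
def TrP (ρ : Γ →* Module.End F V) (r : Fin 3 → Module.End F V) : Prop :=
  ∀ (H : Subgroup Γ), ⁅H, H⁆ = H → ∀ i, (∀ h ∈ H, ∀ v ∈ LinearMap.range (r i - 1), ρ h v ∈ LinearMap.range (r i - 1)) →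
    ∀ h ∈ H, ∀ v ∈ LinearMap.range (r i - 1), ρ h v = v

/-- (RAD) -/
def RdP (Q : QuadraticForm F V) (ρ : Γ →* Module.End F V) (r : Fin 3 → Module.End F V) : Prop :=
  ∀ (H : Subgroup Γ), ⁅H, H⁆ = H → ∀ i (y : V), Q y = 0 → (∀ p ∈ LinearMap.range (r i - 1), polar Q p y = 0) →
    (∀ h ∈ H, ρ h y = y) →
    (∀ h ∈ H, ∀ v ∈ LinearMap.range (r i - 1), ∃ p ∈ LinearMap.range (r i - 1), ∃ a : F, ρ h v = p + a • y) →
    ∀ h ∈ H, ∀ v ∈ LinearMap.range (r i - 1), ρ h v = v

section om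

variable (hS : Sys Q ρ π) (hf : Function.Injective f) (h2 : (2 : F) ≠ 0) {A B M : Subgroup G} {s : G} {k : ℕ}
  {g : Fin 5 → G} (hD : DOm G n t L A B M s k g) (hR : RS Q ρ π f t L r c) (hT : TrP ρ r) (hRd : RdP Q ρ r)

include hD in
theorem Mperf : ⁅M.map f, M.map f⁆ = M.map f := by rw [← Subgroup.map_commutator, hD.perf]

include hS hD in
theorem Mh_perf : ⁅Mh π f M, Mh π f M⁆ = Mh π f M := hat_perf hS.central hS.surj (Mperf hD)

include hS hD in
theorem Mh_lift {m : G} (hm : m ∈ M) : ∃ x ∈ Mh π f M, π x = f m :=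
  exists_hat hS.surj (Mperf hD) (Subgroup.mem_map_of_mem f hm)

theorem Mh_pi {x : Γ} (hx : x ∈ Mh π f M) : ∃ m ∈ M, f m = π x := mem_of_hat hx

include hD hR in
theorem Mh_triv {i : Fin 3} (hi : i ≠ 0) {x : Γ} (hx : x ∈ Mh π f M) {v : V} (hv : v ∈ LinearMap.range (r i - 1)) :
    ρ x v = v := by
  have hi' : i = 1 ∨ i = 2 := by omega
  rcases hi' with rfl | rfl
  · exact hR.triv 1 x (hat_mono (Subgroup.map_mono hD.le₁) hx) v hv
  · exact hR.triv 2 x (hat_mono (Subgroup.map_mono hD.le₂) hx) v hv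

include hS hD hR in
theorem Mh_uniq {x y : Γ} (hx : x ∈ Mh π f M) (hy : y ∈ Mh π f M) (h : π x = π y) : x = y := by
  have h1 : π (x⁻¹ * y) = 1 := by rw [map_mul, map_inv, h, inv_mul_cancel]
  obtain ⟨e, he⟩ := (hS.ker _).1 h1
  obtain ⟨p, hp, hp0⟩ := P_ne hR 1
  have h3 := Mh_triv hD hR (i := 1) (by decide) (mul_mem (inv_mem hx) hy) hp
  rw [he] at h3
  have he1 : e = 1 := by
    have h4 : (e - 1) • p = 0 := by rw [sub_smul, h3, one_smul, sub_self]
    exact sub_eq_zero.1 ((smul_eq_zero.1 h4).resolve_right hp0)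
  have h5 := faithful hS (g := x⁻¹ * y) (fun v => by rw [he, he1, one_smul])
  exact inv_mul_eq_one.1 h5

include hS hD hR in
/-- the lift of `t 0` -/
theorem h0_eq {x : Γ} (hx : x ∈ Mh π f M) (hπ : π x = f (t 0)) (v : V) : ρ x v = r 0 v := by
  obtain ⟨e, -, hl⟩ := hR.lift 0 x hπ
  obtain ⟨p, hp, hp0⟩ := P_ne hR 1
  have h3 := Mh_triv hD hR (i := 1) (by decide) hx hp
  have h4 : r 0 p = p := (fix_iff hS hR).2 fun u hu => hR.perp 0 1 (by decide) u hu p hp
  rw [hl, h4] at h3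
  have he1 : e = 1 := by
    have h5 : (e - 1) • p = 0 := by rw [sub_smul, h3, one_smul, sub_self]
    exact sub_eq_zero.1 ((smul_eq_zero.1 h5).resolve_right hp0)
  rw [hl, he1, one_smul]

/-- the space `X` -/
abbrev XX (ρ : Γ →* Module.End F V) (π : Γ →* T) (f : G →* T) (M : Subgroup G) (r : Fin 3 → Module.End F V) : Submodule F V :=
  Sp ρ (Mh π f M) (LinearMap.range (r 0 - 1))

include hS hD hR in
theorem X_perp {i : Fin 3} (hi : i ≠ 0) {x u : V} (hx : x ∈ XX ρ π f M r) (hu : u ∈ LinearMap.range (r i - 1)) :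
    polar Q x u = 0 :=
  Sp_perp hS (fun _ hm => Mh_triv hD hR hi hm hu) (fun p hp => hR.perp 0 i hi.symm p hp u hu) hx

include hS hD hR hT in
theorem exists_y : ∃ y ∈ XX ρ π f M r, y ≠ 0 ∧ r 0 y = y := by
  by_contra hcon
  push Not at hcon
  have h1 : ∀ x ∈ XX ρ π f M r, x ∈ LinearMap.range (r 0 - 1) := by
    intro x hx
    obtain ⟨p, hp, z, hz, rfl⟩ := exists_dec hR 0 x
    have hzX : z ∈ XX ρ π f M r := by
      have := Submodule.sub_mem _ hx (le_Sp (ρ := ρ) (H := Mh π f M) hp)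
      rwa [add_sub_cancel_left] at this
    have hz0 : z = 0 := by
      by_contra h
      exact hcon z hzX h hz
    rw [hz0, add_zero]
    exact hp
  obtain ⟨h0, hh0, hπ⟩ := Mh_lift hS hD hD.mem
  exact lift_ne hR hπ (hT _ (Mh_perf hS hD) 0 (fun h hh v hv => h1 _ (mem_Sp hh hv)) h0 hh0)

include hS hD hR in
/-- `M` is trivial on the orthogonal space of `X` -/
theorem Mh_pp {x : Γ} (hx : x ∈ Mh π f M) {v : V} (hv : ∀ u ∈ XX ρ π f M r, polar Q u v = 0) : ρ x v = v := by
  let N : Subgroup G :=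
    { carrier := {m | m ∈ M ∧ ∃ x ∈ Mh π f M, π x = f m ∧ ∀ v, (∀ u ∈ XX ρ π f M r, polar Q u v = 0) → ρ x v = v}
      mul_mem' := by
        rintro a b ⟨ha, x, hx, hxa, hxv⟩ ⟨hb, y, hy, hyb, hyv⟩
        exact ⟨mul_mem ha hb, x * y, mul_mem hx hy, by rw [map_mul, map_mul, hxa, hyb], fun v hv => by
          rw [mul_ap, hyv v hv, hxv v hv]⟩
      one_mem' := ⟨one_mem _, 1, one_mem _, by rw [map_one, map_one], fun v _ => one_ap v⟩
      inv_mem' := by
        rintro a ⟨ha, x, hx, hxa, hxv⟩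
        exact ⟨inv_mem ha, x⁻¹, inv_mem hx, by rw [map_inv, map_inv, hxa], fun v hv => by
          nth_rewrite 1 [← hxv v hv]
          rw [inv_ap]⟩ }
  have hN : N = M := by
    apply hD.M_top
    · exact fun m hm => hm.1
    · rintro a ha m ⟨hm, y, hy, hym, hyv⟩
      obtain ⟨z, hz, hza⟩ := Mh_lift hS hD ha
      refine ⟨mul_mem (mul_mem ha hm) (inv_mem ha), z * y * z⁻¹, mul_mem (mul_mem hz hy) (inv_mem hz), ?_, ?_⟩
      · rw [map_mul, map_mul, map_mul, map_mul, map_inv, map_inv, hza, hym]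
      · intro v hv
        rw [mul_ap, mul_ap, hyv, ap_inv]
        intro u hu
        rw [← inv_inv z, inv_inv z⁻¹, ← pol_inv hS]
        exact hv _ (Sp_inv hz hu)
    · obtain ⟨h0, hh0, hπ⟩ := Mh_lift hS hD hD.mem
      refine ⟨hD.mem, h0, hh0, hπ, fun v hv => ?_⟩
      rw [h0_eq hS hD hR hh0 hπ]
      exact (fix_iff hS hR).2 fun p hp => hv p (le_Sp hp)
  obtain ⟨m, hm, hmx⟩ := Mh_pi hx
  have hmN : m ∈ N := by rw [hN]; exact hm
  obtain ⟨-, y, hy, hym, hyv⟩ := hmN
  have : x = y := Mh_uniq hS hD hR hx hy (by rw [← hmx, hym])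
  rw [this]
  exact hyv v hv

/-! ### dimension of `X` -/

include hS hR in
theorem P_disj {i j : Fin 3} (hij : i ≠ j) : Disjoint (LinearMap.range (r i - 1)) (LinearMap.range (r j - 1)) := by
  rw [Submodule.disjoint_def]
  intro x hx hx'
  exact P_nd hS hR hx fun v hv => hR.perp i j hij v hv x hx'

include hS hD hR in
theorem X_le : finrank F (XX ρ π f M r) ≤ 4 := by
  have h1 : XX ρ π f M r ≤ pp Q (LinearMap.range (r 1 - 1) ⊔ LinearMap.range (r 2 - 1)) := by
    intro x hx w hw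
    obtain ⟨a, ha, b, hb, rfl⟩ := Submodule.mem_sup.1 hw
    rw [polar_comm, polar_add_right, X_perp hS hD hR (by decide) hx ha, X_perp hS hD hR (by decide) hx hb, add_zero]
  have h2 := Submodule.finrank_mono h1
  have h3 := finrank_pp (nd hS) (LinearMap.range (r 1 - 1) ⊔ LinearMap.range (r 2 - 1))
  have h4 := Submodule.finrank_sup_add_finrank_inf_eq (LinearMap.range (r 1 - 1)) (LinearMap.range (r 2 - 1))
  rw [(P_disj hS hR (i := 1) (j := 2) (by decide)).eq_bot, finrank_bot, hR.dim, hR.dim] at h4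
  rw [hS.dim] at h3
  omega

include hS hf hD hR hT in
/-- `dim X ≠ 4` -/
theorem X_ne_four (h4 : finrank F (XX ρ π f M r) = 4) : False := by
  obtain ⟨h0, hh0, hπ0⟩ := Mh_lift hS hD hD.mem
  obtain ⟨S, hSs⟩ := hS.surj (f s)
  have hcom : ∀ m' ∈ Mh π f M, ∀ m ∈ Mh π f M, (S * m' * S⁻¹) * m = m * (S * m' * S⁻¹) := by
    intro m' hm' m hm
    refine hat_comm hS.central (M := M.map f) (x := S * m' * S⁻¹) ?_ hm
    rintro _ ⟨a, ha, rfl⟩
    obtain ⟨b, hb, hbm⟩ := Mh_pi hm'
    have e : π (S * m' * S⁻¹) = f (s * b * s⁻¹) := by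
      rw [map_mul, map_mul, map_mul, map_mul, map_inv, map_inv, hSs, hbm]
    rw [e, ← map_mul, ← map_mul, ← hD.s_comm a ha b hb]
  -- the conjugate of the lift
  let Ms : Subgroup Γ := cj S (Mh π f M)
  have hMs : ⁅Ms, Ms⁆ = Ms := by
    change ⁅(Mh π f M).map _, (Mh π f M).map _⁆ = (Mh π f M).map _
    rw [← Subgroup.map_commutator, Mh_perf hS hD]
  have hMsm : ∀ y ∈ Ms, ∃ m ∈ Mh π f M, y = S * m * S⁻¹ := by
    rintro _ ⟨m, hm, rfl⟩
    exact ⟨m, hm, rfl⟩
  have hmem : ∀ m ∈ Mh π f M, S * m * S⁻¹ ∈ Ms := fun m hm => ⟨m, hm, rfl⟩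
  have hMs0 : ∀ y ∈ Ms, ∀ v ∈ LinearMap.range (r 0 - 1), ρ y v = v := by
    refine hT Ms hMs 0 fun y hy v hv => ?_
    obtain ⟨m, hm, rfl⟩ := hMsm y hy
    obtain ⟨a, rfl⟩ := hv
    change ρ (S * m * S⁻¹) (r 0 a - a) ∈ _
    rw [← h0_eq hS hD hR hh0 hπ0, map_sub, ← mul_ap, hcom m hm h0 hh0, mul_ap, h0_eq hS hD hR hh0 hπ0]
    exact mem_P hR 0 _
  have hMsX : ∀ y ∈ Ms, ∀ x ∈ XX ρ π f M r, ρ y x = x := by
    intro y hy x hx
    refine Sp_fix (fun m hm => ?_) (hMs0 y hy) hx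
    obtain ⟨m', hm', rfl⟩ := hMsm y hy
    exact hcom m' hm' m hm
  have hperp : ∀ x ∈ XX ρ π f M r, ∀ x' ∈ XX ρ π f M r, polar Q x (ρ S x') = 0 := by
    intro x hx x' hx'
    induction hx' using Submodule.span_induction with
    | mem x' hx' =>
      obtain ⟨m, hm, p, ⟨a, rfl⟩, rfl⟩ := hx'
      change polar Q x (ρ S (ρ m (r 0 a - a))) = 0
      have e1 : ρ S (ρ m (r 0 a - a)) = ρ (S * m * S⁻¹) (ρ (S * h0 * S⁻¹) (ρ S a) - ρ S a) := by
        rw [← h0_eq hS hD hR hh0 hπ0, map_sub, map_sub, map_sub]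
        simp only [← mul_ap]
        congr 2
        · congr 1; group
        · congr 1; group
      rw [e1, polar_comm, pol_inv hS, hMsX _ (inv_mem (hmem m hm)) x hx]
      exact pol_fix hS (hMsX _ (hmem h0 hh0) x hx) _
    | zero => rw [map_zero, polar_zero_right]
    | add a b _ _ ha hb => rw [map_add, polar_add_right, ha, hb, add_zero]
    | smul e a _ ha => rw [map_smul, polar_smul_right, ha, smul_zero]
  -- the image is the orthogonal space
  have hinj : Function.Injective (ρ S) := by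
    intro a b hab
    have := congrArg (ρ S⁻¹) hab
    rwa [inv_ap, inv_ap] at this
  have hmap : (XX ρ π f M r).map (ρ S) = pp Q (XX ρ π f M r) := by
    apply Submodule.eq_of_le_of_finrank_eq
    · rintro _ ⟨x', hx', rfl⟩ x hx
      exact hperp x hx x' hx'
    · have e1 := finrank_pp (nd hS) (XX ρ π f M r)
      rw [hS.dim, h4] at e1
      rw [← (Submodule.equivMapOfInjective (ρ S) hinj (XX ρ π f M r)).finrank_eq, h4]
      omega
  have hback : ∀ v ∈ pp Q (XX ρ π f M r), ρ S v ∈ XX ρ π f M r := by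
    intro v hv
    rw [← pp_pp (nd hS) (XX ρ π f M r), ← hmap]
    rintro _ ⟨x, hx, rfl⟩
    rw [pol hS]
    exact hv x hx
  have hforth : ∀ x ∈ XX ρ π f M r, ρ S x ∈ pp Q (XX ρ π f M r) := by
    intro x hx
    rw [← hmap]
    exact ⟨x, hx, rfl⟩
  have hpow : ∀ j : ℕ, ∀ x ∈ XX ρ π f M r, ρ (S ^ (2 * j + 1)) x ∈ pp Q (XX ρ π f M r) := by
    intro j
    induction j with
    | zero => intro x hx; rw [Nat.mul_zero, Nat.zero_add, pow_one]; exact hforth x hx
    | succ j ih =>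
      intro x hx
      rw [show 2 * (j + 1) + 1 = (2 * j + 1) + 1 + 1 by ring, pow_succ, pow_succ, mul_ap, mul_ap]
      exact ih _ (hback _ (hforth x hx))
  obtain ⟨j, hj⟩ := hD.odd
  have hSk : π (S ^ k) = 1 := by rw [map_pow, hSs, ← map_pow, hD.s_pow, map_one]
  obtain ⟨e, he⟩ := (hS.ker _).1 hSk
  obtain ⟨p, hp, hp0⟩ := P_ne hR 0
  have h5 := hpow j p (le_Sp hp)
  rw [← hj, he] at h5
  have he0 : e ≠ 0 := by
    rintro rfl
    have := inv_ap (ρ := ρ) (S ^ k) p
    rw [he, zero_smul, map_zero] at this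
    exact hp0 this.symm
  apply hp0
  apply P_nd hS hR hp
  intro v hv
  have h6 := h5 v (le_Sp hv)
  rw [polar_smul_right, smul_eq_mul] at h6
  exact (mul_eq_zero.1 h6).resolve_left he0

include hS hf hD hR hT in
theorem X_three : finrank F (XX ρ π f M r) = 3 := by
  have h1 := X_le hS hD hR
  have h2 : finrank F (XX ρ π f M r) ≠ 4 := fun h => X_ne_four hS hf hD hR hT h
  obtain ⟨y, hy, hy0, hy1⟩ := exists_y hS hD hR hT
  have h3 : finrank F (LinearMap.range (r 0 - 1)) < finrank F (XX ρ π f M r) := by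
    apply Submodule.finrank_lt_finrank_of_lt
    refine lt_of_le_of_ne le_Sp fun h => ?_
    rw [← h] at hy
    exact hy0 (inf_zero hR hy hy1)
  rw [hR.dim] at h3
  omega

include hS hf h2 hD hR hT hRd in
/-- `X = P 0 ⊥ ⟨y⟩`, `Q y ≠ 0` -/
theorem exists_y' : ∃ y ∈ XX ρ π f M r, r 0 y = y ∧ Q y ≠ 0 := by
  obtain ⟨y, hy, hy0, hy1⟩ := exists_y hS hD hR hT
  refine ⟨y, hy, hy1, fun hQ => ?_⟩
  have hX : ∀ x ∈ XX ρ π f M r, ∃ p ∈ LinearMap.range (r 0 - 1), ∃ a : F, x = p + a • y := by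
    have h1 : LinearMap.range (r 0 - 1) ⊔ Submodule.span F {y} = XX ρ π f M r := by
      apply Submodule.eq_of_le_of_finrank_le
      · exact sup_le le_Sp ((Submodule.span_singleton_le_iff_mem _ _).2 hy)
      · rw [X_three hS hf hD hR hT]
        have h3 : finrank F (LinearMap.range (r 0 - 1)) <
            finrank F ↥(LinearMap.range (r 0 - 1) ⊔ Submodule.span F {y}) := by
          apply Submodule.finrank_lt_finrank_of_lt
          refine lt_of_le_of_ne le_sup_left fun h => ?_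
          have h4 : y ∈ LinearMap.range (r 0 - 1) := by
            rw [h]
            exact Submodule.mem_sup_right (Submodule.mem_span_singleton_self y)
          exact hy0 (inf_zero hR h4 hy1)
        rw [hR.dim] at h3
        omega
    intro x hx
    rw [← h1] at hx
    obtain ⟨p, hp, z, hz, rfl⟩ := Submodule.mem_sup.1 hx
    obtain ⟨a, rfl⟩ := Submodule.mem_span_singleton.1 hz
    exact ⟨p, hp, a, rfl⟩
  have hyX : ∀ u ∈ XX ρ π f M r, polar Q u y = 0 := by
    intro u hu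
    obtain ⟨p, hp, a, rfl⟩ := hX u hu
    rw [polar_add_left, polar_smul_left, QuadraticMap.polar_self, hQ, (fix_iff hS hR).1 hy1 p hp]
    simp
  obtain ⟨h0, hh0, hπ⟩ := Mh_lift hS hD hD.mem
  refine lift_ne hR hπ (hRd _ (Mh_perf hS hD) 0 y hQ (fun p hp => (fix_iff hS hR).1 hy1 p hp)
    (fun h hh => Mh_pp hS hD hR hh hyX) (fun h hh v hv => hX _ (mem_Sp hh hv)) h0 hh0)

end om

end Cfsg.Agent.H442.O8R
end

-- part: H442/O8R/GeoOm
section
/-!
# S3691, row `PΩ⁺₈(q)`, SPIN: GEO-OM (helper442)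
-/

set_option autoImplicit false
set_option linter.unusedSectionVars false

namespace Cfsg.Agent.H442.O8R

open Module QuadraticMap Cfsg.Agent.H953.O8R Cfsg.Agent.H578.RC Cfsg.Agent.LieClassical.OrthCore
open scoped commutatorElement

variable {F V Γ T G : Type} [Field F] [Fintype F] [AddCommGroup V] [Module F V] [FiniteDimensional F V] [Group Γ] [Group T] [Group G]
  {Q : QuadraticForm F V} {ρ : Γ →* Module.End F V} {π : Γ →* T} {f : G →* T} {n : ℕ} {t : Fin 3 → G}
  {L : Fin 3 → Subgroup G} {r : Fin 3 → Module.End F V} {c : F}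

theorem trP (hS : Sys Q ρ π) (h2 : (2 : F) ≠ 0) (hR : RS Q ρ π f t L r c) : TrP ρ r := by
  intro H hH i hinv
  obtain ⟨p, hp, hp0⟩ := P_ne hR i
  exact H332.O8R.O2 hH hR.irr (hR.dim i) (fun v hv => r_mem hR hv) (fun v _ => hR.iso i v) (hR.quad i)
    ⟨p, hp, fun h => hp0 (P_ani hS h2 hR hp h)⟩ (fun h _ v _ => hS.iso h v) hinv

theorem rdP (hS : Sys Q ρ π) (h2 : (2 : F) ≠ 0) (hR : RS Q ρ π f t L r c) : RdP Q ρ r := by
  intro H hH i y hQ hperp hfix hinv h hh v hv
  obtain ⟨p, hp, hp0⟩ := P_ne hR i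
  refine H332.O8R.RAD hH hR.irr (hR.dim i) (fun v hv => r_mem hR hv) (fun v _ => hR.iso i v) (hR.quad i)
    ⟨p, hp, fun h => hp0 (P_ani hS h2 hR hp h)⟩ (hR.compl i) (y := y) ((mem_ker hR).2 ((fix_iff hS hR).2 hperp)) hQ hperp
    (fun h _ v => hS.iso h v) ?_ ?_ h hh v (Submodule.mem_sup_left hv)
  · intro h hh v hv
    obtain ⟨p, hp, a, e⟩ := hinv h hh v hv
    rw [e]
    exact Submodule.add_mem _ (Submodule.mem_sup_left hp)
      (Submodule.mem_sup_right (Submodule.smul_mem _ _ (Submodule.mem_span_singleton_self y)))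
  · intro h hh
    rw [hfix h hh]
    exact Submodule.mem_span_singleton_self y

/-- isometries of rank one are reflections -/
theorem rank_one (hS : Sys Q ρ π) (h2 : (2 : F) ≠ 0) {h : Γ} (hr : finrank F (LinearMap.range (ρ h - 1)) ≤ 1) (v : V) :
    ρ h (ρ h v) = v := by
  obtain ⟨⟨w, a0, ha0⟩, hw⟩ := finrank_le_one_iff.1 hr
  change ρ h a0 - a0 = w at ha0
  have hb : ∀ a, ∃ b : F, ρ h a = a + b • w := by
    intro a
    obtain ⟨b, hb⟩ := hw ⟨ρ h a - a, a, rfl⟩
    refine ⟨b, ?_⟩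
    have := congrArg Subtype.val hb
    change b • w = ρ h a - a at this
    rw [this]
    abel
  by_cases hQ : Q w = 0
  · have hw0 : w = 0 := by
      by_contra hw0
      have key : ∀ a, ρ h a = a ∨ polar Q a w = 0 := by
        intro a
        obtain ⟨b, hb⟩ := hb a
        have h3 := hS.iso h a
        rw [hb, QuadraticMap.map_add Q, QuadraticMap.map_smul, hQ, polar_smul_right, smul_zero, add_zero, add_eq_left,
          smul_eq_mul] at h3
        rcases mul_eq_zero.1 h3 with h4 | h4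
        · left; rw [hb, h4, zero_smul, add_zero]
        · right; exact h4
      have h5 : polar Q a0 w = 0 := (key a0).resolve_left fun h => hw0 (by rw [← ha0, h, sub_self])
      apply hw0
      apply hS.nondeg
      intro a
      by_contra h6
      have h7 : ρ h a = a := (key a).resolve_right h6
      rcases key (a0 + a) with h8 | h8
      · rw [map_add, h7, add_left_inj] at h8
        exact hw0 (by rw [← ha0, h8, sub_self])
      · rw [polar_add_left, h5, zero_add] at h8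
        exact h6 h8
    obtain ⟨b, hb1⟩ := hb v
    rw [hw0, smul_zero, add_zero] at hb1
    rw [hb1, hb1]
  · obtain ⟨b, hb1⟩ := hb w
    have h3 := hS.iso h w
    have h4 : ρ h w = (1 + b) • w := by rw [hb1, add_smul, one_smul]
    rw [h4, QuadraticMap.map_smul, smul_eq_mul] at h3
    have h5 : ((1 + b) - 1) * ((1 + b) + 1) = 0 := by
      have h6 : (((1 + b) - 1) * ((1 + b) + 1)) * Q w = 0 := by linear_combination h3
      exact (mul_eq_zero.1 h6).resolve_right hQ
    rcases mul_eq_zero.1 h5 with h6 | h6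
    · exfalso
      rw [sub_eq_zero] at h6
      rw [h6, one_smul] at h4
      have h7 := pol_fix hS h4 a0
      rw [ha0, QuadraticMap.polar_self, two_nsmul, ← two_mul] at h7
      rcases mul_eq_zero.1 h7 with h8 | h8
      · exact h2 h8
      · exact hQ h8
    · have h7 : 1 + b = -1 := eq_neg_of_add_eq_zero_left h6
      rw [h7, neg_smul, one_smul] at h4
      obtain ⟨a, ha⟩ := hb v
      rw [ha, map_add, map_smul, h4, ha, smul_neg]
      abel

section om

variable (hS : Sys Q ρ π) (hf : Function.Injective f) (h2 : (2 : F) ≠ 0) {A B M : Subgroup G} {s : G} {k : ℕ}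
  {g : Fin 5 → G} (hD : DOm G n t L A B M s k g) (hR : RS Q ρ π f t L r c)

theorem ap_inj (x : Γ) : Function.Injective (ρ x) := by
  intro a b hab
  have := congrArg (ρ x⁻¹) hab
  rwa [inv_ap, inv_ap] at this

/-- the translates of `X` -/
abbrev XT (ρ : Γ →* Module.End F V) (π : Γ →* T) (f : G →* T) (M : Subgroup G) (r : Fin 3 → Module.End F V) (x : Γ) :
    Submodule F V := (XX ρ π f M r).map (ρ x)

include hS hf h2 hD hR in
theorem XT_dim (x : Γ) : finrank F (XT ρ π f M r x) = 3 := by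
  rw [← (Submodule.equivMapOfInjective (ρ x) (ap_inj x) (XX ρ π f M r)).finrank_eq, X_three hS hf hD hR (trP hS h2 hR)]

include hS hD hR in
theorem XT_fix (x : Γ) {m : Γ} (hm : m ∈ Mh π f M) {u : V} (hu : ∀ v ∈ XT ρ π f M r x, polar Q v u = 0) :
    ρ (x * m * x⁻¹) u = u := by
  rw [mul_ap, mul_ap, Mh_pp hS hD hR hm, ap_inv]
  intro v hv
  rw [← pol_inv hS]
  exact hu _ ⟨v, hv, rfl⟩

include hS hD hR in
theorem XT_range (x : Γ) {m : Γ} (hm : m ∈ Mh π f M) : LinearMap.range (ρ (x * m * x⁻¹) - 1) ≤ XT ρ π f M r x := by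
  rintro _ ⟨a, rfl⟩
  rw [← pp_pp (nd hS) (XT ρ π f M r x)]
  intro u hu
  have h1 : ∀ v ∈ XT ρ π f M r x, polar Q v u = 0 := hu
  have h3 := pol_fix hS (XT_fix hS hD hR x hm h1) a
  rw [polar_comm]
  exact h3

theorem exists_pp (hS : Sys Q ρ π) {W : Submodule F V} (hW : finrank F W < 8) : ∃ u : V, u ≠ 0 ∧ ∀ v ∈ W, polar Q v u = 0 := by
  have h1 := finrank_pp (nd hS) W
  rw [hS.dim] at h1
  have h3 : pp Q W ≠ ⊥ := by
    intro h
    rw [h, finrank_bot] at h1
    omega
  obtain ⟨u, hu, hu0⟩ := Submodule.exists_mem_ne_zero_of_ne_bot h3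
  exact ⟨u, hu0, hu⟩

include hS hf h2 hD hR in
/-- linked translates meet in a space of dimension two -/
theorem XT_link {Gi : Fin 5 → Γ} (hGi : ∀ i, π (Gi i) = f (g i)) {i j : Fin 5} {x : G} (hi : x ∈ cj (g i) M)
    (hj : x ∈ cj (g j) M) (hx : x ^ 2 ≠ 1) : 2 ≤ finrank F ↥(XT ρ π f M r (Gi i) ⊓ XT ρ π f M r (Gi j)) := by
  obtain ⟨a, ha, ha1⟩ := hi
  obtain ⟨b, hb, hb1⟩ := hj
  change g i * a * (g i)⁻¹ = x at ha1
  change g j * b * (g j)⁻¹ = x at hb1
  obtain ⟨a', ha', hπa⟩ := Mh_lift hS hD ha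
  obtain ⟨b', hb', hπb⟩ := Mh_lift hS hD hb
  have e1 : π (Gi i * a' * (Gi i)⁻¹) = f x := by
    rw [map_mul, map_mul, map_inv, hGi, hπa, ← ha1, map_mul, map_mul, map_inv]
  have e2 : π (Gi j * b' * (Gi j)⁻¹) = f x := by
    rw [map_mul, map_mul, map_inv, hGi, hπb, ← hb1, map_mul, map_mul, map_inv]
  have e3 : π ((Gi i * a' * (Gi i)⁻¹)⁻¹ * (Gi j * b' * (Gi j)⁻¹)) = 1 := by
    rw [map_mul, map_inv, e1, e2, inv_mul_cancel]
  obtain ⟨e, he⟩ := (hS.ker _).1 e3
  have h8 : finrank F ↥(XT ρ π f M r (Gi i) ⊔ XT ρ π f M r (Gi j)) < 8 := by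
    have := Submodule.finrank_add_le_finrank_add_finrank (XT ρ π f M r (Gi i)) (XT ρ π f M r (Gi j))
    rw [XT_dim hS hf h2 hD hR, XT_dim hS hf h2 hD hR] at this
    omega
  obtain ⟨u, hu0, hu⟩ := exists_pp hS h8
  have h3 : ρ (Gi i * a' * (Gi i)⁻¹) u = u := XT_fix hS hD hR _ ha' fun v hv => hu v (Submodule.mem_sup_left hv)
  have h4 : ρ (Gi j * b' * (Gi j)⁻¹) u = u := XT_fix hS hD hR _ hb' fun v hv => hu v (Submodule.mem_sup_right hv)
  have h5 := he u
  rw [mul_ap, h4] at h5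
  have h6 : ρ (Gi i * a' * (Gi i)⁻¹)⁻¹ u = u := by
    nth_rewrite 1 [← h3]
    rw [inv_ap]
  rw [h6] at h5
  have he1 : e = 1 := by
    have h7 : (e - 1) • u = 0 := by rw [sub_smul, ← h5, one_smul, sub_self]
    exact sub_eq_zero.1 ((smul_eq_zero.1 h7).resolve_right hu0)
  have h7 : Gi i * a' * (Gi i)⁻¹ = Gi j * b' * (Gi j)⁻¹ :=
    inv_mul_eq_one.1 (faithful hS fun v => by rw [he, he1, one_smul])
  have h9 : LinearMap.range (ρ (Gi i * a' * (Gi i)⁻¹) - 1) ≤ XT ρ π f M r (Gi i) ⊓ XT ρ π f M r (Gi j) := by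
    refine le_inf (XT_range hS hD hR _ ha') ?_
    rw [h7]
    exact XT_range hS hD hR _ hb'
  refine le_trans ?_ (Submodule.finrank_mono h9)
  by_contra hlt
  have h10 := rank_one hS h2 (h := Gi i * a' * (Gi i)⁻¹) (by omega)
  apply hx
  apply hf
  rw [map_pow, ← e1, ← map_pow, map_one]
  rw [faithful hS (g := (Gi i * a' * (Gi i)⁻¹) ^ 2) (fun v => by rw [pow_two, mul_ap]; exact h10 v), map_one]

include hS hf h2 hD hR in
theorem exists_Z {Gi : Fin 5 → Γ} (hGi : ∀ i, π (Gi i) = f (g i)) (m : ℕ) (hm : m < 5) :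
    ∃ Z : Submodule F V, finrank F Z ≤ 3 + m ∧ ∀ i : Fin 5, i.val ≤ m → XT ρ π f M r (Gi i) ≤ Z := by
  induction m with
  | zero =>
    refine ⟨XT ρ π f M r (Gi 0), by rw [XT_dim hS hf h2 hD hR], fun i hi => ?_⟩
    have : i = 0 := Fin.ext (by simpa using hi)
    rw [this]
  | succ m ih =>
    obtain ⟨Z, hZ, hle⟩ := ih (by omega)
    refine ⟨Z ⊔ XT ρ π f M r (Gi ⟨m + 1, hm⟩), ?_, fun i hi => ?_⟩
    · obtain ⟨j, hj, x, hx, hxj, hx2⟩ := hD.link ⟨m + 1, hm⟩ (by
        intro h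
        have := congrArg Fin.val h
        simp at this)
      have h1 := XT_link hS hf h2 hD hR hGi hx hxj hx2
      have h3 : XT ρ π f M r (Gi ⟨m + 1, hm⟩) ⊓ XT ρ π f M r (Gi j) ≤ Z ⊓ XT ρ π f M r (Gi ⟨m + 1, hm⟩) := by
        refine le_inf (inf_le_right.trans (hle j ?_)) inf_le_left
        have : j.val < m + 1 := hj
        omega
      have h4 := Submodule.finrank_mono h3
      have h5 := Submodule.finrank_sup_add_finrank_inf_eq Z (XT ρ π f M r (Gi ⟨m + 1, hm⟩))
      rw [XT_dim hS hf h2 hD hR] at h5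
      omega
    · rcases Nat.lt_or_ge i.val (m + 1) with h | h
      · exact (hle i (by omega)).trans le_sup_left
      · have : i = ⟨m + 1, hm⟩ := Fin.ext (by simpa using le_antisymm hi h)
        rw [this]
        exact le_sup_right

include hS hf h2 hD hR in
/-- a vector fixed by the perfect lift of `G` -/
theorem exists_z : ∃ z : V, z ≠ 0 ∧ ∀ x ∈ hat π ((⊤ : Subgroup G).map f), ρ x z = z := by
  choose Gi hGi using fun i => hS.surj (f (g i))
  obtain ⟨Z, hZ, hle⟩ := exists_Z hS hf h2 hD hR hGi 4 (by norm_num)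
  obtain ⟨z, hz0, hz⟩ := exists_pp hS (W := Z) (by omega)
  refine ⟨z, hz0, ?_⟩
  let D : Subgroup Γ :=
    { carrier := {x | ∃ e : F, ρ x z = e • z}
      mul_mem' := by
        rintro a b ⟨ea, ha⟩ ⟨eb, hb⟩
        exact ⟨eb * ea, by rw [mul_ap, hb, map_smul, ha, smul_smul]⟩
      one_mem' := ⟨1, by rw [one_ap, one_smul]⟩
      inv_mem' := by
        rintro a ⟨e, he⟩
        have h1 := inv_ap (ρ := ρ) a z
        rw [he, map_smul] at h1
        have he0 : e ≠ 0 := by
          rintro rfl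
          rw [zero_smul] at h1
          exact hz0 h1.symm
        refine ⟨e⁻¹, ?_⟩
        nth_rewrite 2 [← h1]
        rw [smul_smul, inv_mul_cancel₀ he0, one_smul] }
  have hDM : (D.map π).comap f = ⊤ := by
    rw [eq_top_iff, ← hD.top, iSup_le_iff]
    rintro i _ ⟨a, ha, rfl⟩
    obtain ⟨a', ha', hπa⟩ := Mh_lift hS hD ha
    refine ⟨Gi i * a' * (Gi i)⁻¹, ⟨1, ?_⟩, ?_⟩
    · rw [one_smul]
      exact XT_fix hS hD hR _ ha' fun v hv => hz v (hle i (by have := i.2; omega) hv)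
    · rw [map_mul, map_mul, map_inv, hGi, hπa]
      change _ = f (g i * a * (g i)⁻¹)
      rw [map_mul, map_mul, map_inv]
  have hcD : ((⊤ : Subgroup G).map f).comap π ≤ D := by
    rintro y ⟨a, -, ha⟩
    have h1 : a ∈ (D.map π).comap f := by rw [hDM]; exact Subgroup.mem_top _
    obtain ⟨x, hx, hxa⟩ := h1
    have h3 : π (x⁻¹ * y) = 1 := by rw [map_mul, map_inv, hxa, ← ha, inv_mul_cancel]
    obtain ⟨e, he⟩ := (hS.ker _).1 h3
    have h4 : x⁻¹ * y ∈ D := ⟨e, he z⟩
    have h5 := D.mul_mem hx h4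
    rwa [mul_inv_cancel_left] at h5
  let E : Subgroup Γ :=
    { carrier := {x | ρ x z = z}
      mul_mem' := by
        intro a b ha hb
        change ρ (a * b) z = z
        rw [mul_ap, hb, ha]
      one_mem' := one_ap z
      inv_mem' := by
        intro a ha
        change ρ a⁻¹ z = z
        nth_rewrite 1 [← (show ρ a z = z from ha)]
        rw [inv_ap] }
  have hE : hat π ((⊤ : Subgroup G).map f) ≤ E := by
    rw [hat, Subgroup.commutator_le]
    intro a ha b hb
    have key : ∀ a ∈ ((⊤ : Subgroup G).map f).comap π, ∃ e e' : F, ρ a z = e • z ∧ ρ a⁻¹ z = e' • z ∧ e * e' = 1 := by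
      intro a ha
      obtain ⟨e, he⟩ := hcD ha
      obtain ⟨e', he'⟩ := hcD (inv_mem ha)
      refine ⟨e, e', he, he', ?_⟩
      have h1 := inv_ap (ρ := ρ) a z
      rw [he, map_smul, he', smul_smul] at h1
      have h7 : (e * e' - 1) • z = 0 := by rw [sub_smul, h1, one_smul, sub_self]
      exact sub_eq_zero.1 ((smul_eq_zero.1 h7).resolve_right hz0)
    obtain ⟨e, e', h1, h3, h4⟩ := key a ha
    obtain ⟨d, d', h5, h6, h7⟩ := key b hb
    change ρ ⁅a, b⁆ z = z
    rw [commutatorElement_def, mul_ap, mul_ap, mul_ap, h6]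
    simp only [map_smul, h3, h5, h1, smul_smul]
    convert one_smul F z using 2
    linear_combination (d * d') * h4 + h7
  exact fun x hx => hE hx

include hS h2 hD hR in
/-- vectors fixed by the perfect lift of `G` are orthogonal to the three planes -/
theorem fix_r {v : V} (hv : ∀ x ∈ hat π ((⊤ : Subgroup G).map f), ρ x v = v) (i : Fin 3) : r i v = v := by
  have hi : i = 0 ∨ i ≠ 0 := by omega
  rcases hi with rfl | hi
  · obtain ⟨x, hx, hxπ⟩ := Mh_lift hS hD hD.mem
    exact fix_lift h2 hR hxπ (hv x (hat_mono (Subgroup.map_mono le_top) hx))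
  · obtain ⟨x, hx, hxπ⟩ := exists_hat hS.surj (M := (L 0).map f) (by rw [← Subgroup.map_commutator, hD.rot.perf])
      (Subgroup.mem_map_of_mem f (hD.rot.mem 0 i hi.symm))
    exact fix_lift h2 hR hxπ (hv x (hat_mono (Subgroup.map_mono le_top) hx))

include hS h2 hD hR in
theorem fix_X {v : V} (hv : ∀ x ∈ hat π ((⊤ : Subgroup G).map f), ρ x v = v) {x : V} (hx : x ∈ XX ρ π f M r) :
    polar Q x v = 0 :=
  Sp_perp hS (fun m hm => hv m (hat_mono (Subgroup.map_mono le_top) hm))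
    ((fix_iff hS hR).1 (fix_r hS h2 hD hR hv 0)) hx

/-- the sum of the three planes -/
abbrev P6 (r : Fin 3 → Module.End F V) : Submodule F V :=
  (LinearMap.range (r 0 - 1) ⊔ LinearMap.range (r 1 - 1)) ⊔ LinearMap.range (r 2 - 1)

include hS hR in
theorem mem_W4 {v : V} : v ∈ pp Q (P6 r) ↔ ∀ i, r i v = v := by
  constructor
  · intro h i
    rw [fix_iff hS hR]
    intro p hp
    apply h
    have hi : i = 0 ∨ i = 1 ∨ i = 2 := by omega
    rcases hi with rfl | rfl | rfl
    · exact Submodule.mem_sup_left (Submodule.mem_sup_left hp)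
    · exact Submodule.mem_sup_left (Submodule.mem_sup_right hp)
    · exact Submodule.mem_sup_right hp
  · intro h u hu
    obtain ⟨x, hx, p2, hp2, rfl⟩ := Submodule.mem_sup.1 hu
    obtain ⟨p0, hp0, p1, hp1, rfl⟩ := Submodule.mem_sup.1 hx
    rw [polar_add_left, polar_add_left, (fix_iff hS hR).1 (h 0) p0 hp0, (fix_iff hS hR).1 (h 1) p1 hp1,
      (fix_iff hS hR).1 (h 2) p2 hp2, add_zero, add_zero]

include hS hR in
theorem W4_dim : finrank F (pp Q (P6 r)) = 2 := by
  have h1 := finrank_pp (nd hS) (P6 r)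
  have h3 := Submodule.finrank_sup_add_finrank_inf_eq (LinearMap.range (r 0 - 1)) (LinearMap.range (r 1 - 1))
  rw [(P_disj hS hR (i := 0) (j := 1) (by decide)).eq_bot, finrank_bot, hR.dim, hR.dim] at h3
  have h4 := Submodule.finrank_sup_add_finrank_inf_eq (LinearMap.range (r 0 - 1) ⊔ LinearMap.range (r 1 - 1))
    (LinearMap.range (r 2 - 1))
  have h5 : (LinearMap.range (r 0 - 1) ⊔ LinearMap.range (r 1 - 1)) ⊓ LinearMap.range (r 2 - 1) = ⊥ := by
    rw [eq_bot_iff]
    rintro x ⟨hx, hx2⟩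
    obtain ⟨p0, hp0, p1, hp1, rfl⟩ := Submodule.mem_sup.1 hx
    refine (Submodule.mem_bot F).2 (P_nd hS hR hx2 fun v hv => ?_)
    rw [polar_add_right, hR.perp 2 0 (by decide) v hv p0 hp0, hR.perp 2 1 (by decide) v hv p1 hp1, add_zero]
  rw [h5, finrank_bot, hR.dim] at h4
  rw [hS.dim] at h1
  simp only [P6] at h1 ⊢
  omega

include hS hf h2 hD hR in
/-- **GEO-OM** -/
theorem geo_om : ∃ w : V, Q w ≠ 0 ∧ ∀ v, (∀ x ∈ hat π ((⊤ : Subgroup G).map f), ρ x v = v) ↔ v ∈ Submodule.span F {w} := by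
  obtain ⟨y, hyX, hy0, hyQ⟩ := exists_y' hS hf h2 hD hR (trP hS h2 hR) (rdP hS h2 hR)
  obtain ⟨z, hz0, hz⟩ := exists_z hS hf h2 hD hR
  have hyy : polar Q y y ≠ 0 := by
    rw [QuadraticMap.polar_self, two_nsmul, ← two_mul]
    exact mul_ne_zero h2 hyQ
  have hyW : y ∈ pp Q (P6 r) := by
    rw [mem_W4 hS hR]
    intro i
    have hi : i = 0 ∨ i ≠ 0 := by omega
    rcases hi with rfl | hi
    · exact hy0
    · rw [fix_iff hS hR]
      intro p hp
      rw [polar_comm]
      exact X_perp hS hD hR hi hyX hp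
  let C : Submodule F V := pp Q (P6 r) ⊓ pp Q (Submodule.span F {y})
  have hC : ∀ v, v ∈ C ↔ (∀ i, r i v = v) ∧ polar Q y v = 0 := by
    intro v
    rw [Submodule.mem_inf, mem_W4 hS hR]
    refine and_congr_right fun _ => ⟨fun h => h y (Submodule.mem_span_singleton_self y), fun h u hu => ?_⟩
    obtain ⟨a, rfl⟩ := Submodule.mem_span_singleton.1 hu
    rw [polar_smul_left, h, smul_zero]
  have hCdim : finrank F C < 2 := by
    rw [← W4_dim hS hR]
    apply Submodule.finrank_lt_finrank_of_lt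
    refine lt_of_le_of_ne inf_le_left fun h => hyy ?_
    rw [← h] at hyW
    exact ((hC y).1 hyW).2
  have hfixC : ∀ v, (∀ x ∈ hat π ((⊤ : Subgroup G).map f), ρ x v = v) → v ∈ C := fun v hv =>
    (hC v).2 ⟨fix_r hS h2 hD hR hv, fix_X hS h2 hD hR hv hyX⟩
  have hCz : Submodule.span F {z} = C := by
    apply Submodule.eq_of_le_of_finrank_le
    · rw [Submodule.span_singleton_le_iff_mem]
      exact hfixC z hz
    · rw [finrank_span_singleton hz0]
      omega
  refine ⟨z, ?_, fun v => ⟨fun hv => by rw [hCz]; exact hfixC v hv, fun hv x hx => ?_⟩⟩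
  · intro hQz
    have hzC := (hC z).1 (hfixC z hz)
    have hzz : polar Q z z = 0 := by rw [QuadraticMap.polar_self, hQz, smul_zero]
    have h3 : ∀ w ∈ pp Q (P6 r), polar Q w z = 0 := by
      intro w hw
      have h4 : w - (polar Q y w / polar Q y y) • y ∈ C := by
        rw [hC]
        refine ⟨(mem_W4 hS hR).1 (Submodule.sub_mem _ hw (Submodule.smul_mem _ _ hyW)), ?_⟩
        rw [polar_sub_right, polar_smul_right, smul_eq_mul, div_mul_cancel₀ _ hyy, sub_self]
      rw [← hCz] at h4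
      obtain ⟨a, ha⟩ := Submodule.mem_span_singleton.1 h4
      have h5 : w = a • z + (polar Q y w / polar Q y y) • y := by rw [ha]; abel
      rw [h5, polar_add_left, polar_smul_left, polar_smul_left, hzz, hzC.2, smul_zero, smul_zero, add_zero]
    have h4 : z ∈ P6 r := by
      rw [← pp_pp (nd hS) (P6 r)]
      exact h3
    obtain ⟨x, hx, p2, hp2, hx2⟩ := Submodule.mem_sup.1 h4
    obtain ⟨p0, hp0, p1, hp1, rfl⟩ := Submodule.mem_sup.1 hx
    have e0 : p0 = 0 := P_nd hS hR hp0 fun v hv => by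
      have h6 := (fix_iff hS hR).1 (hzC.1 0) v hv
      rw [← hx2, polar_add_right, polar_add_right, hR.perp 0 1 (by decide) v hv p1 hp1,
        hR.perp 0 2 (by decide) v hv p2 hp2, add_zero, add_zero] at h6
      exact h6
    have e1 : p1 = 0 := P_nd hS hR hp1 fun v hv => by
      have h6 := (fix_iff hS hR).1 (hzC.1 1) v hv
      rw [← hx2, polar_add_right, polar_add_right, hR.perp 1 0 (by decide) v hv p0 hp0,
        hR.perp 1 2 (by decide) v hv p2 hp2, add_zero, zero_add] at h6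
      exact h6
    have e2 : p2 = 0 := P_nd hS hR hp2 fun v hv => by
      have h6 := (fix_iff hS hR).1 (hzC.1 2) v hv
      rw [← hx2, polar_add_right, polar_add_right, hR.perp 2 0 (by decide) v hv p0 hp0,
        hR.perp 2 1 (by decide) v hv p1 hp1, zero_add, zero_add] at h6
      exact h6
    exact hz0 (by rw [← hx2, e0, e1, e2, add_zero, add_zero])
  · obtain ⟨a, rfl⟩ := Submodule.mem_span_singleton.1 hv
    rw [map_smul, hz x hx]

end om

end Cfsg.Agent.H442.O8R
end

-- part: H953/O8R/Eig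
section
/-!
# S3691, row `PΩ⁺₈(q)`: SPIN: endomorphisms with `T ^ q = T` (helper953)
-/

set_option autoImplicit false
set_option linter.unusedSectionVars false

namespace Cfsg.Agent.H953.O8R

open Module Polynomial

variable {F V : Type*} [Field F] [Fintype F] [AddCommGroup V] [Module F V]

theorem prod_X_sub_C' : ∏ c : F, (X - C c : F[X]) = X ^ Fintype.card F - X := by
  have h1 := Polynomial.prod_multiset_X_sub_C_of_monic_of_roots_card_eq (p := (X ^ Fintype.card F - X : F[X]))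
    (Polynomial.monic_X_pow_sub (by rw [degree_X]; exact_mod_cast Fintype.one_lt_card)) (by
      rw [FiniteField.roots_X_pow_card_sub_X, FiniteField.X_pow_card_sub_X_natDegree_eq F Fintype.one_lt_card]
      rfl)
  rw [FiniteField.roots_X_pow_card_sub_X] at h1
  exact h1

theorem iSup_eig (T : Module.End F V) (h : T ^ Fintype.card F = T) : ⨆ c : F, T.eigenspace c = ⊤ := by
  classical
  rw [eq_top_iff]
  intro v _
  have h1 : ∑ c : F, ∏ d ∈ Finset.univ.erase c, (X - C d : F[X]) = -1 := by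
    have h2 := congrArg derivative (prod_X_sub_C' (F := F))
    rw [derivative_prod_finset, derivative_sub, derivative_X_pow, derivative_X, FiniteField.cast_card_eq_zero, map_zero, zero_mul,
      zero_sub] at h2
    rw [← h2]
    refine Finset.sum_congr rfl fun c _ => ?_
    rw [derivative_sub, derivative_X, derivative_C, sub_zero, mul_one]
  have h3 : v = ∑ c : F, -(aeval T (∏ d ∈ Finset.univ.erase c, (X - C d : F[X])) v) := by
    have h4 := congrArg (fun p : F[X] => aeval T p v) h1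
    simp only [map_sum, LinearMap.sum_apply, map_neg, map_one, LinearMap.neg_apply, Module.End.one_apply] at h4
    rw [Finset.sum_neg_distrib, h4, neg_neg]
  rw [h3]
  refine Submodule.sum_mem _ fun c _ => Submodule.neg_mem _ (Submodule.mem_iSup_of_mem c ?_)
  rw [Module.End.mem_eigenspace_iff, ← sub_eq_zero]
  have h5 : aeval T ((X - C c) * ∏ d ∈ Finset.univ.erase c, (X - C d : F[X])) v = 0 := by
    rw [Finset.mul_prod_erase Finset.univ (fun d => (X - C d : F[X])) (Finset.mem_univ c), prod_X_sub_C', map_sub, map_pow, aeval_X,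
      h, sub_self, LinearMap.zero_apply]
  rw [map_mul, Module.End.mul_apply, map_sub, aeval_X, aeval_C, LinearMap.sub_apply, Module.algebraMap_end_apply] at h5
  exact h5

/-- `g + g⁻¹` for `g ^ (q + 1) = 1` -/
theorem add_inv_pow {g g' : Module.End F V} (h1 : g * g' = 1) (h2 : g' * g = 1) (h : g ^ (Fintype.card F + 1) = 1) :
    (g + g') ^ Fintype.card F = g + g' := by
  obtain ⟨p, hp⟩ := CharP.exists F
  obtain ⟨n, hpr, hn⟩ := FiniteField.card F p
  have := Fact.mk hpr
  rcases subsingleton_or_nontrivial V with hV | hV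
  · exact Subsingleton.elim _ _
  have hch : CharP (Module.End F V) p := charP_of_injective_algebraMap (algebraMap F (Module.End F V)).injective p
  have hc : Commute g g' := by rw [Commute, SemiconjBy, h1, h2]
  have e1 : g ^ Fintype.card F = g' := by
    have h3 : g' * g ^ (Fintype.card F + 1) = g' := by rw [h, mul_one]
    rw [pow_succ', ← mul_assoc, h2, one_mul] at h3
    exact h3
  have e2 : g' ^ Fintype.card F = g := by
    have h4 : g' ^ (Fintype.card F + 1) * g ^ (Fintype.card F + 1) = 1 := by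
      rw [← hc.symm.mul_pow, h2, one_pow]
    rw [h, mul_one, pow_succ'] at h4
    have h5 : g * (g' * g' ^ Fintype.card F) = g := by rw [h4, mul_one]
    rw [← mul_assoc, h1, one_mul] at h5
    exact h5
  conv_lhs => rw [hn]
  rw [add_pow_char_pow_of_commute (p := p) _ hc, ← hn, e1, e2, add_comm]

end Cfsg.Agent.H953.O8R
end

-- part: H953/O8R/Dich
section
/-!
# S3691, row `PΩ⁺₈(q)`: SPIN: the dichotomy (helper953)
-/

set_option autoImplicit false
set_option linter.unusedSectionVars false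

namespace Cfsg.Agent.H953.O8R

open Module QuadraticMap
open scoped commutatorElement

variable {F V Γ : Type} [Field F] [Fintype F] [AddCommGroup V] [Module F V] [FiniteDimensional F V] [Group Γ]

/-- restriction of `ρ` to a subgroup and an invariant subspace -/
def rs (ρ : Γ →* Module.End F V) (A : Subgroup Γ) (U : Submodule F V) (h : ∀ x ∈ A, ∀ u ∈ U, ρ x u ∈ U) : A →* Module.End F U :=
  subRep (ρ.comp A.subtype) U fun x u hu => h x x.2 u hu

theorem rs_apply (ρ : Γ →* Module.End F V) (A : Subgroup Γ) (U : Submodule F V) (h : ∀ x ∈ A, ∀ u ∈ U, ρ x u ∈ U) (x : A) (u : U) :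
    ((rs ρ A U h x u : U) : V) = ρ x u := rfl

theorem rs_one {ρ : Γ →* Module.End F V} {A : Subgroup Γ} {U : Submodule F V} {h : ∀ x ∈ A, ∀ u ∈ U, ρ x u ∈ U}
    (h1 : ∀ x, rs ρ A U h x = 1) : ∀ x ∈ A, ∀ u ∈ U, ρ x u = u := fun x hx u hu =>
  congrArg Subtype.val (LinearMap.congr_fun (h1 ⟨x, hx⟩) ⟨u, hu⟩)

/-- an eigenspace of `g + g⁻¹` -/
theorem mem_eig {ρ : Γ →* Module.End F V} {g : Γ} {c : F} {v : V} :
    v ∈ (ρ g + ρ g⁻¹).eigenspace c ↔ ρ g v + ρ g⁻¹ v = c • v := by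
  rw [Module.End.mem_eigenspace_iff, LinearMap.add_apply]

theorem rho_mul_inv (ρ : Γ →* Module.End F V) (g : Γ) (v : V) : ρ g (ρ g⁻¹ v) = v := by
  rw [← Module.End.mul_apply, ← map_mul, mul_inv_cancel, map_one, Module.End.one_apply]

theorem rho_inv_mul (ρ : Γ →* Module.End F V) (g : Γ) (v : V) : ρ g⁻¹ (ρ g v) = v := by
  rw [← Module.End.mul_apply, ← map_mul, inv_mul_cancel, map_one, Module.End.one_apply]

theorem eig_sq {ρ : Γ →* Module.End F V} {g : Γ} {c : F} {v : V} (h : v ∈ (ρ g + ρ g⁻¹).eigenspace c) :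
    ρ g (ρ g v) = c • ρ g v - v := by
  have h1 := congrArg (ρ g) (mem_eig.1 h)
  rw [map_add, rho_mul_inv, map_smul] at h1
  rw [← h1, add_sub_cancel_right]

theorem eig_inv {ρ : Γ →* Module.End F V} {g x : Γ} (hx : x * g = g * x) {c : F} {v : V}
    (h : v ∈ (ρ g + ρ g⁻¹).eigenspace c) : ρ x v ∈ (ρ g + ρ g⁻¹).eigenspace c := by
  rw [mem_eig] at h ⊢
  have h1 : ρ g (ρ x v) = ρ x (ρ g v) := by
    rw [← Module.End.mul_apply, ← Module.End.mul_apply, ← map_mul, ← map_mul, hx]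
  have hx' : x * g⁻¹ = g⁻¹ * x := by
    have := congrArg (fun y => g⁻¹ * y * g⁻¹) hx
    simp only [mul_assoc, mul_inv_cancel, mul_one, inv_mul_cancel_left] at this
    exact this.symm
  have h2 : ρ g⁻¹ (ρ x v) = ρ x (ρ g⁻¹ v) := by
    rw [← Module.End.mul_apply, ← Module.End.mul_apply, ← map_mul, ← map_mul, hx']
  rw [h1, h2, ← map_add, h, map_smul]

/-- if `x² - c x + 1` has a root then `g` is `± 1` on the eigenspace -/
theorem eig_red {ρ : Γ →* Module.End F V} {g : Γ} (hg : g ^ (Fintype.card F + 1) = 1) {c : F} {m : F} (hm : m * m - c * m + 1 = 0)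
    (hne : (ρ g + ρ g⁻¹).eigenspace c ≠ ⊥) : ∃ e : F, (e = 1 ∨ e = -1) ∧ ∀ v ∈ (ρ g + ρ g⁻¹).eigenspace c, ρ g v = e • v := by
  have hm0 : m ≠ 0 := by
    rintro rfl
    simp at hm
  have hgN : ∀ v, (ρ g ^ (Fintype.card F + 1)) v = v := fun v => by
    rw [← map_pow, hg, map_one, Module.End.one_apply]
  have hpow : ∀ (a : F) (w : V), ρ g w = a • w → ∀ k : ℕ, (ρ g ^ k) w = a ^ k • w := by
    intro a w hw k
    induction k with
    | zero => rw [pow_zero, pow_zero, Module.End.one_apply, one_smul]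
    | succ k ih => rw [pow_succ, Module.End.mul_apply, hw, map_smul, ih, smul_smul, pow_succ, mul_comm]
  have hq : ∀ a : F, a ^ (Fintype.card F + 1) = a * a := fun a => by rw [pow_succ, FiniteField.pow_card]
  have hsq : ∀ (a : F) (w : V), ρ g w = a • w → w ≠ 0 → a * a = 1 := by
    intro a w hw hw0
    have h1 := hpow a w hw (Fintype.card F + 1)
    rw [hgN, hq] at h1
    have h2 : (a * a - 1) • w = 0 := by rw [sub_smul, one_smul, ← h1, sub_self]
    exact sub_eq_zero.1 ((smul_eq_zero.1 h2).resolve_right hw0)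
  have hc : c = m + m⁻¹ := by
    field_simp
    linear_combination -hm
  -- `m * m = 1`
  have hmm : m * m = 1 := by
    obtain ⟨v, hv, hv0⟩ := (Submodule.ne_bot_iff _).1 hne
    have hgg := eig_sq hv
    by_cases hw : ρ g v - m⁻¹ • v = 0
    · have h1 := hsq m⁻¹ v (sub_eq_zero.1 hw) hv0
      have h2 : m * m * (m⁻¹ * m⁻¹) = 1 := by field_simp
      rw [h1, mul_one] at h2
      exact h2
    · refine hsq m _ ?_ hw
      rw [map_sub, map_smul, hgg, hc, add_smul, smul_sub, smul_smul, mul_inv_cancel₀ hm0, one_smul]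
      abel
  have hinv : m⁻¹ = m := inv_eq_of_mul_eq_one_right hmm
  refine ⟨m, mul_self_eq_one_iff.1 hmm, fun v hv => ?_⟩
  have hgg := eig_sq hv
  rw [hc, hinv] at hgg
  have hw : ρ g (ρ g v - m • v) = m • (ρ g v - m • v) := by
    rw [map_sub, map_smul, hgg, add_smul, smul_sub, smul_smul, hmm, one_smul]
    abel
  obtain ⟨w, hwd⟩ : ∃ w, w = ρ g v - m • v := ⟨_, rfl⟩
  rw [← hwd] at hw
  have hgv : ρ g v = m • v + w := by rw [hwd]; abel
  have h3 : ∀ k : ℕ, (ρ g ^ k) v = m ^ k • v + ((k : F) * (m ^ k * m)) • w := by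
    intro k
    induction k with
    | zero => simp only [_root_.pow_zero, _root_.Module.End.one_apply, _root_.one_smul, _root_.Nat.cast_zero, _root_.one_mul, _root_.MulZeroClass.zero_mul, _root_.zero_smul, _root_.add_zero]
    | succ k ih =>
      have h5 : m ^ (k + 1) * m = m ^ k := by rw [pow_succ, mul_assoc, hmm, mul_one]
      have h6 : (k : F) * (m ^ k * m) * m = (k : F) * m ^ k := by rw [mul_assoc, mul_assoc, hmm, mul_one]
      rw [pow_succ', Module.End.mul_apply, ih, map_add, map_smul, map_smul, hw, hgv, smul_smul, h6, h5, smul_add, smul_smul, add_assoc,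
        ← add_smul, ← pow_succ]
      push_cast
      congr 2
      ring
  have h4 := h3 (Fintype.card F + 1)
  rw [hgN, hq, hmm, one_smul, Nat.cast_add, Nat.cast_one, FiniteField.cast_card_eq_zero, zero_add, one_mul, one_mul] at h4
  have h5 : m • w = 0 := by
    have h6 : v + m • w = v + 0 := by rw [add_zero]; exact h4.symm
    exact add_left_cancel h6
  rw [hgv, (smul_eq_zero.1 h5).resolve_left hm0, add_zero]

/-- **the dichotomy** -/
theorem dich (ρ : Γ →* Module.End F V) (hV : finrank F V = 8) {g : Γ} (hg : g ^ (Fintype.card F + 1) = 1) {L A B : Subgroup Γ}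
    (hLg : ∀ x ∈ L, x * g = g * x) (hA : ⁅A, A⁆ = A) (hB : ⁅B, B⁆ = B) (hAB : ∀ a ∈ A, ∀ b ∈ B, a * b = b * a) (hAL : A ≤ L)
    (hBL : B ≤ L) (hcl : ∀ U : Submodule F V, (∀ x ∈ L, ∀ u ∈ U, ρ x u ∈ U) →
      ((∀ a ∈ A, ∀ u ∈ U, ρ a u = u) ∨ (∀ b ∈ B, ∀ u ∈ U, ρ b u = u)) → ∀ x ∈ L, ∀ u ∈ U, ρ x u = u) :
    (∃ c : F, (∀ x : F, x * x - c * x + 1 ≠ 0) ∧ ∀ v, ρ g (ρ g v) = c • ρ g v - v) ∨
      (∃ e : F, (e = 1 ∨ e = -1) ∧ ∀ x ∈ L, ∀ v, ρ x (ρ g v - e • v) = ρ g v - e • v) ∨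
      (∀ v, ρ g (ρ g v) = v) := by
  have hpA := comm_top hA
  have hpB := comm_top hB
  have hsup : ⨆ c : F, (ρ g + ρ g⁻¹).eigenspace c = ⊤ := by
    refine iSup_eig _ (add_inv_pow ?_ ?_ ?_)
    · rw [← map_mul, mul_inv_cancel, map_one]
    · rw [← map_mul, inv_mul_cancel, map_one]
    · rw [← map_pow, hg, map_one]
  have hinv : ∀ c, ∀ x ∈ L, ∀ u ∈ (ρ g + ρ g⁻¹).eigenspace c, ρ x u ∈ (ρ g + ρ g⁻¹).eigenspace c :=
    fun c x hx u hu => eig_inv (hLg x hx) hu
  have hcm : ∀ a ∈ A, ∀ b ∈ B, ∀ v, ρ a (ρ b v) = ρ b (ρ a v) := by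
    intro a ha b hb v
    rw [← Module.End.mul_apply, ← Module.End.mul_apply, ← map_mul, ← map_mul, hAB a ha b hb]
  have hgc : ∀ x ∈ L, ∀ v, ρ x (ρ g v) = ρ g (ρ x v) := by
    intro x hx v
    rw [← Module.End.mul_apply, ← Module.End.mul_apply, ← map_mul, ← map_mul, hLg x hx]
  -- an irreducible bad eigenvalue
  by_cases h1 : ∃ c : F, (∀ x : F, x * x - c * x + 1 ≠ 0) ∧ ¬ ∀ x ∈ L, ∀ v ∈ (ρ g + ρ g⁻¹).eigenspace c, ρ x v = v
  · obtain ⟨c, hirr, hbad⟩ := h1
    refine Or.inl ⟨c, hirr, fun v => ?_⟩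
    by_cases hd : finrank F ((ρ g + ρ g⁻¹).eigenspace c) ≤ 7
    · exfalso
      have hiA : ∀ x ∈ A, ∀ u ∈ (ρ g + ρ g⁻¹).eigenspace c, ρ x u ∈ (ρ g + ρ g⁻¹).eigenspace c := fun x hx => hinv c x (hAL hx)
      have hiB : ∀ x ∈ B, ∀ u ∈ (ρ g + ρ g⁻¹).eigenspace c, ρ x u ∈ (ρ g + ρ g⁻¹).eigenspace c := fun x hx => hinv c x (hBL hx)
      have hz : ∀ u ∈ (ρ g + ρ g⁻¹).eigenspace c, ρ g u ∈ (ρ g + ρ g⁻¹).eigenspace c := fun u hu => eig_inv rfl hu
      refine hbad (hcl _ (hinv c) ?_)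
      rcases lab6 hpA hpB hd hirr (z := (ρ g).restrict hz) (fun u => Subtype.ext (eig_sq u.2)) (rs ρ A _ hiA) (rs ρ B _ hiB)
        (fun a b w => Subtype.ext (hcm a a.2 b b.2 w)) (fun a w => Subtype.ext (hgc a (hAL a.2) w))
        (fun b w => Subtype.ext (hgc b (hBL b.2) w)) with h | h
      · exact Or.inl (rs_one h)
      · exact Or.inr (rs_one h)
    · have htop : (ρ g + ρ g⁻¹).eigenspace c = ⊤ := by
        apply Submodule.eq_top_of_finrank_eq
        have := Submodule.finrank_le ((ρ g + ρ g⁻¹).eigenspace c)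
        omega
      exact eig_sq (by rw [htop]; trivial)
  right
  push Not at h1
  -- a bad eigenvalue is `± 2`
  have hbad : ∀ c : F, (¬ ∀ x ∈ L, ∀ v ∈ (ρ g + ρ g⁻¹).eigenspace c, ρ x v = v) →
      (∃ e : F, (e = 1 ∨ e = -1) ∧ ∀ v ∈ (ρ g + ρ g⁻¹).eigenspace c, ρ g v = e • v) ∧
        4 ≤ finrank F ((ρ g + ρ g⁻¹).eigenspace c) := by
    intro c hc
    have h2 : ∃ m : F, m * m - c * m + 1 = 0 := by
      by_contra h
      push Not at h
      exact hc (h1 c h)
    obtain ⟨m, hm⟩ := h2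
    refine ⟨eig_red hg hm ?_, ?_⟩
    · intro h
      apply hc
      intro x _ v hv
      rw [h, Submodule.mem_bot] at hv
      rw [hv, map_zero]
    · by_contra hd
      have hiA : ∀ x ∈ A, ∀ u ∈ (ρ g + ρ g⁻¹).eigenspace c, ρ x u ∈ (ρ g + ρ g⁻¹).eigenspace c := fun x hx => hinv c x (hAL hx)
      have hiB : ∀ x ∈ B, ∀ u ∈ (ρ g + ρ g⁻¹).eigenspace c, ρ x u ∈ (ρ g + ρ g⁻¹).eigenspace c := fun x hx => hinv c x (hBL hx)
      refine hc (hcl _ (hinv c) ?_)
      rcases lab hpA hpB (finrank F ((ρ g + ρ g⁻¹).eigenspace c)) (by omega) ((ρ g + ρ g⁻¹).eigenspace c) rfl (rs ρ A _ hiA)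
        (rs ρ B _ hiB) (fun a b w => Subtype.ext (hcm a a.2 b b.2 w)) with h | h
      · exact Or.inl (rs_one h)
      · exact Or.inr (rs_one h)
  by_cases h3 : ∃ c₁ c₂ : F, c₁ ≠ c₂ ∧ (¬ ∀ x ∈ L, ∀ v ∈ (ρ g + ρ g⁻¹).eigenspace c₁, ρ x v = v) ∧
      (¬ ∀ x ∈ L, ∀ v ∈ (ρ g + ρ g⁻¹).eigenspace c₂, ρ x v = v)
  · right
    obtain ⟨c₁, c₂, hne, hb1, hb2⟩ := h3
    obtain ⟨⟨e₁, he1, hg1⟩, hd1⟩ := hbad c₁ hb1
    obtain ⟨⟨e₂, he2, hg2⟩, hd2⟩ := hbad c₂ hb2
    have hdis : (ρ g + ρ g⁻¹).eigenspace c₁ ⊓ (ρ g + ρ g⁻¹).eigenspace c₂ = ⊥ := by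
      rw [eq_bot_iff]
      rintro v ⟨hv1, hv2⟩
      rw [SetLike.mem_coe, Module.End.mem_eigenspace_iff] at hv1 hv2
      have h4 : (c₁ - c₂) • v = 0 := by rw [sub_smul, ← hv1, ← hv2, sub_self]
      exact (smul_eq_zero.1 h4).resolve_left (sub_ne_zero.2 hne)
    have htop : (ρ g + ρ g⁻¹).eigenspace c₁ ⊔ (ρ g + ρ g⁻¹).eigenspace c₂ = ⊤ := by
      apply Submodule.eq_top_of_finrank_eq
      have h5 := Submodule.finrank_sup_add_finrank_inf_eq ((ρ g + ρ g⁻¹).eigenspace c₁) ((ρ g + ρ g⁻¹).eigenspace c₂)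
      have h6 := Submodule.finrank_le ((ρ g + ρ g⁻¹).eigenspace c₁ ⊔ (ρ g + ρ g⁻¹).eigenspace c₂)
      rw [hdis, finrank_bot] at h5
      omega
    have hee : ∀ e : F, (e = 1 ∨ e = -1) → e * e = 1 := by
      rintro e (rfl | rfl)
      · rw [one_mul]
      · rw [neg_mul_neg, one_mul]
    intro v
    have hv : v ∈ (ρ g + ρ g⁻¹).eigenspace c₁ ⊔ (ρ g + ρ g⁻¹).eigenspace c₂ := by rw [htop]; trivial
    obtain ⟨v1, hv1, v2, hv2, rfl⟩ := Submodule.mem_sup.1 hv
    rw [map_add, map_add, hg1 v1 hv1, hg2 v2 hv2, map_smul, map_smul, hg1 v1 hv1, hg2 v2 hv2, smul_smul, smul_smul, hee e₁ he1,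
      hee e₂ he2, one_smul, one_smul]
  · left
    push Not at h3
    -- one sign
    have h4 : ∃ e : F, (e = 1 ∨ e = -1) ∧ ∀ c : F, (¬ ∀ x ∈ L, ∀ v ∈ (ρ g + ρ g⁻¹).eigenspace c, ρ x v = v) →
        ∀ v ∈ (ρ g + ρ g⁻¹).eigenspace c, ρ g v = e • v := by
      by_cases h5 : ∃ c : F, ¬ ∀ x ∈ L, ∀ v ∈ (ρ g + ρ g⁻¹).eigenspace c, ρ x v = v
      · obtain ⟨c, hc⟩ := h5
        obtain ⟨⟨e, he, hge⟩, -⟩ := hbad c hc
        refine ⟨e, he, fun c' hc' => ?_⟩
        by_cases h6 : c = c'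
        · rw [← h6]; exact hge
        · exfalso
          obtain h7 := h3 c c' h6
          push Not at hc hc'
          obtain ⟨x, hx, v, hv, hxv⟩ := hc'
          exact hxv (h7 hc x hx v hv)
      · push Not at h5
        exact ⟨1, Or.inl rfl, fun c hc => absurd (h5 c) hc⟩
    obtain ⟨e, he, hge⟩ := h4
    refine ⟨e, he, fun x hx v => ?_⟩
    have hv : v ∈ ⨆ c : F, (ρ g + ρ g⁻¹).eigenspace c := by rw [hsup]; trivial
    induction hv using Submodule.iSup_induction' with
    | mem c v hv =>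
      by_cases hc : ∀ x ∈ L, ∀ v ∈ (ρ g + ρ g⁻¹).eigenspace c, ρ x v = v
      · exact hc x hx _ (Submodule.sub_mem _ (eig_inv rfl hv) (Submodule.smul_mem _ _ hv))
      · rw [hge c hc v hv, sub_self, map_zero]
    | zero => rw [map_zero, smul_zero, sub_self, map_zero]
    | add u v _ _ hu hv =>
      have h8 : ρ g (u + v) - e • (u + v) = (ρ g u - e • u) + (ρ g v - e • v) := by
        rw [map_add, smul_add]; abel
      rw [h8, map_add, hu, hv]

end Cfsg.Agent.H953.O8R
end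

-- part: H953/O8R/Step
section
/-!
# S3691, row `PΩ⁺₈(q)`: SPIN: the dichotomy for the rotation data (helper953)
-/

set_option autoImplicit false
set_option linter.unusedSectionVars false

namespace Cfsg.Agent.H953.O8R

open Module QuadraticMap
open scoped commutatorElement

variable {F V Γ T G : Type} [Field F] [Fintype F] [AddCommGroup V] [Module F V] [FiniteDimensional F V] [Group Γ] [Group T] [Group G]
  {Q : QuadraticForm F V} {ρ : Γ →* Module.End F V} {π : Γ →* T} {f : G →* T} {n : ℕ} {t : Fin 3 → G}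
  {L : Fin 3 → Subgroup G} {A B : Subgroup G}

theorem Sys.exists_ne (hS : Sys Q ρ π) : ∃ v, Q v ≠ 0 := by
  by_contra h
  push Not at h
  have h1 : ∀ v : V, v = 0 := fun v => hS.nondeg v fun u => by rw [polar, h, h, h, sub_zero, sub_zero]
  have h2 : Subsingleton V := ⟨fun a b => by rw [h1 a, h1 b]⟩
  have h3 := hS.dim
  rw [finrank_zero_of_subsingleton] at h3
  omega

theorem Sys.scal (hS : Sys Q ρ π) {g : Γ} {e : F} (h : ∀ v, ρ g v = e • v) : e = 1 ∨ e = -1 := by
  obtain ⟨v, hv⟩ := hS.exists_ne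
  have h1 := hS.iso g v
  rw [h, QuadraticMap.map_smul, smul_eq_mul] at h1
  have h2 : (e * e - 1) * Q v = 0 := by rw [sub_mul, one_mul, h1, sub_self]
  exact mul_self_eq_one_iff.1 (sub_eq_zero.1 ((mul_eq_zero.1 h2).resolve_right hv))

theorem ee {e : F} (h : e = 1 ∨ e = -1) : e * e = 1 := by
  rcases h with rfl | rfl
  · rw [one_mul]
  · rw [neg_mul_neg, one_mul]

theorem Sys.lift (hS : Sys Q ρ π) {x y : Γ} (h : π x = π y) : ∃ e : F, (e = 1 ∨ e = -1) ∧ ∀ v, ρ x v = e • ρ y v := by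
  have h1 : π (y⁻¹ * x) = 1 := by rw [map_mul, map_inv, h, inv_mul_cancel]
  obtain ⟨e, he⟩ := (hS.ker _).1 h1
  refine ⟨e, hS.scal he, fun v => ?_⟩
  rw [← map_smul, ← he, ← Module.End.mul_apply, ← map_mul, mul_inv_cancel_left]

theorem perf_map (h : ⁅A, A⁆ = A) : ⁅A.map f, A.map f⁆ = A.map f := by
  rw [← Subgroup.map_commutator, h]

/-- a lift of an element with `t ^ n = 1`, `n (2, q - 1) = q + 1` -/
theorem Sys.pow_lift (hS : Sys Q ρ π) (hn : n * Nat.gcd 2 (Fintype.card F - 1) = Fintype.card F + 1) {g : Γ} {y : G}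
    (hg : π g = f y) (hy : y ^ n = 1) : g ^ (Fintype.card F + 1) = 1 := by
  have h1 : π (g ^ n) = 1 := by rw [map_pow, hg, ← map_pow, hy, map_one]
  obtain ⟨e, he⟩ := (hS.ker _).1 h1
  have h2 := hS.scal he
  apply hS.inj
  rw [map_one]
  refine LinearMap.ext fun v => ?_
  rw [Module.End.one_apply]
  have hd : Nat.gcd 2 (Fintype.card F - 1) = 1 ∨ Nat.gcd 2 (Fintype.card F - 1) = 2 :=
    (Nat.dvd_prime Nat.prime_two).1 (Nat.gcd_dvd_left _ _)
  rcases hd with hd | hd
  · have h2' : (2 : F) = 0 := by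
      have h5 : Fintype.card F % 2 = 0 := by
        by_contra h5
        have h6 : 2 ∣ Fintype.card F - 1 := by
          have := Fintype.one_lt_card (α := F)
          omega
        have h7 : 2 ∣ Nat.gcd 2 (Fintype.card F - 1) := Nat.dvd_gcd dvd_rfl h6
        rw [hd] at h7
        omega
      have h6 : (2 : ℕ) ∣ Fintype.card F := Nat.dvd_of_mod_eq_zero h5
      obtain ⟨p, hp⟩ := CharP.exists F
      obtain ⟨m, hpr, hm⟩ := FiniteField.card F p
      have h7 : 2 ∣ p := Nat.prime_two.dvd_of_dvd_pow (hm ▸ h6)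
      have h8 : 2 = p := (Nat.prime_dvd_prime_iff_eq Nat.prime_two hpr).1 h7
      subst h8
      exact_mod_cast CharP.cast_eq_zero F 2
    have he1 : e = 1 := by
      rcases h2 with h2 | h2
      · exact h2
      · rw [h2]
        have : (1 : F) + 1 = 0 := by rw [one_add_one_eq_two, h2']
        exact neg_eq_of_add_eq_zero_left this
    rw [hd, mul_one] at hn
    rw [← hn, he, he1, one_smul]
  · rw [hd] at hn
    rw [← hn, pow_mul, pow_two, map_mul, Module.End.mul_apply, he, he, smul_smul, ee h2, one_smul]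

/-- closure -/
theorem closure (hS : Sys Q ρ π) {L0 : Subgroup G} (hL : ⁅L0, L0⁆ = L0) (hA : ⁅A, A⁆ = A) (hAL : A ≤ L0)
    (htop : ∀ N : Subgroup G, N ≤ L0 → (∀ g ∈ L0, ∀ x ∈ N, g * x * g⁻¹ ∈ N) → A ≤ N → N = L0) {U : Submodule F V}
    (hU : ∀ x ∈ hat π (L0.map f), ∀ u ∈ U, ρ x u ∈ U) (h : ∀ a ∈ hat π (A.map f), ∀ u ∈ U, ρ a u = u) :
    ∀ x ∈ hat π (L0.map f), ∀ u ∈ U, ρ x u = u := by
  have hLf := perf_map (f := f) hL
  have hAf := perf_map (f := f) hA
  let N : Subgroup G :=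
    { carrier := {y | y ∈ L0 ∧ ∃ x ∈ hat π (L0.map f), π x = f y ∧ ∀ u ∈ U, ρ x u = u}
      mul_mem' := by
        rintro y y' ⟨hy, x, hx, he, hu⟩ ⟨hy', x', hx', he', hu'⟩
        refine ⟨mul_mem hy hy', x * x', mul_mem hx hx', by rw [map_mul, map_mul, he, he'], fun u huU => ?_⟩
        rw [map_mul, Module.End.mul_apply, hu' u huU, hu u huU]
      one_mem' := ⟨one_mem _, 1, one_mem _, by rw [map_one, map_one], fun u _ => by rw [map_one, Module.End.one_apply]⟩
      inv_mem' := by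
        rintro y ⟨hy, x, hx, he, hu⟩
        refine ⟨inv_mem hy, x⁻¹, inv_mem hx, by rw [map_inv, map_inv, he], fun u huU => ?_⟩
        conv_lhs => rw [← hu u huU]
        rw [rho_inv_mul] }
  have hN : N = L0 := by
    refine htop N (fun y hy => hy.1) ?_ ?_
    · rintro g hg y ⟨hy, x, hx, he, hu⟩
      obtain ⟨X, hX, heX⟩ := exists_hat hS.surj hLf (Subgroup.mem_map_of_mem f hg)
      refine ⟨mul_mem (mul_mem hg hy) (inv_mem hg), X * x * X⁻¹, mul_mem (mul_mem hX hx) (inv_mem hX), ?_, fun u huU => ?_⟩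
      · rw [map_mul, map_mul, map_inv, heX, he, map_mul, map_mul, map_inv]
      · rw [map_mul, map_mul, Module.End.mul_apply, Module.End.mul_apply, hu _ (hU _ (inv_mem hX) u huU), rho_mul_inv]
    · intro a ha
      obtain ⟨X, hX, heX⟩ := exists_hat hS.surj hAf (Subgroup.mem_map_of_mem f ha)
      exact ⟨hAL ha, X, hat_mono (Subgroup.map_mono hAL) hX, heX, h X hX⟩
  have hpL := comm_top (hat_perf hS.central hS.surj hLf)
  have hsc : ∀ x ∈ hat π (L0.map f), ∃ e : F, ∀ u ∈ U, ρ x u = e • u := by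
    intro x hx
    obtain ⟨y, hy, he⟩ := mem_of_hat hx
    have hyN : y ∈ N := by rw [hN]; exact hy
    obtain ⟨-, x', hx', he', hu'⟩ := hyN
    obtain ⟨e, -, h2⟩ := hS.lift (x := x) (y := x') (by rw [he', he])
    exact ⟨e, fun u hu => by rw [h2, hu' u hu]⟩
  refine rs_one (h := hU) fun x => triv_of_comm hpL _ (fun a b => ?_) x
  obtain ⟨e, he⟩ := hsc a a.2
  obtain ⟨e', he'⟩ := hsc b b.2
  refine LinearMap.ext fun u => Subtype.ext ?_
  rw [Module.End.mul_apply, Module.End.mul_apply, rs_apply, rs_apply, rs_apply, rs_apply, he' _ u.2, map_smul, he _ u.2, map_smul,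
    he' _ u.2, smul_comm]

theorem Rot.hcl (hS : Sys Q ρ π) (hD : Rot G n t L A B) {U : Submodule F V}
    (hU : ∀ x ∈ hat π ((L 0).map f), ∀ u ∈ U, ρ x u ∈ U)
    (h : (∀ a ∈ hat π (A.map f), ∀ u ∈ U, ρ a u = u) ∨ (∀ b ∈ hat π (B.map f), ∀ u ∈ U, ρ b u = u)) :
    ∀ x ∈ hat π ((L 0).map f), ∀ u ∈ U, ρ x u = u := by
  rcases h with h | h
  · exact closure hS (hD.perf 0) hD.A_perf hD.A_le hD.A_top hU h
  · exact closure hS (hD.perf 0) hD.B_perf hD.B_le hD.B_top hU h

theorem Rot.hat_cent (hS : Sys Q ρ π) (hD : Rot G n t L A B) {g : Γ} {i : Fin 3} (hg : π g = f (t i)) :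
    ∀ x ∈ hat π ((L i).map f), x * g = g * x := by
  intro x hx
  refine (hat_comm hS.central (x := g) ?_ hx).symm
  rintro _ ⟨y, hy, rfl⟩
  rw [hg, ← map_mul, ← map_mul, hD.cent i y hy]

/-- **the dichotomy for the rotation data** -/
theorem Rot.dich (hS : Sys Q ρ π) (hf : Function.Injective f) (hD : Rot G n t L A B)
    (hn : n * Nat.gcd 2 (Fintype.card F - 1) = Fintype.card F + 1) {g : Γ} (hg : π g = f (t 0)) :
    (∃ c : F, (∀ x : F, x * x - c * x + 1 ≠ 0) ∧ ∀ v, ρ g (ρ g v) = c • ρ g v - v) ∨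
      (∃ e : F, (e = 1 ∨ e = -1) ∧ ∀ x ∈ hat π ((L 0).map f), ∀ v, ρ x (ρ g v - e • v) = ρ g v - e • v) := by
  have hgN := hS.pow_lift hn hg (hD.pow 0)
  have hA := hat_perf hS.central hS.surj (perf_map (f := f) hD.A_perf)
  have hB := hat_perf hS.central hS.surj (perf_map (f := f) hD.B_perf)
  have hAB : ∀ a ∈ hat π (A.map f), ∀ b ∈ hat π (B.map f), a * b = b * a := by
    intro a ha b hb
    refine hat_comm hS.central (x := a) ?_ hb
    rintro _ ⟨b', hb', rfl⟩
    obtain ⟨a', ha', he⟩ := mem_of_hat ha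
    rw [← he, ← map_mul, ← map_mul, hD.comm a' ha' b' hb']
  rcases O8R.dich ρ hS.dim hgN (hD.hat_cent hS hg) hA hB hAB (hat_mono (Subgroup.map_mono hD.A_le))
    (hat_mono (Subgroup.map_mono hD.B_le)) (fun U hU h => hD.hcl hS hU h) with h | h | h
  · exact Or.inl h
  · exact Or.inr h
  · exfalso
    have h1 : π (g * g) = 1 := (hS.ker _).2 ⟨1, fun v => by rw [map_mul, Module.End.mul_apply, h, one_smul]⟩
    rw [map_mul, hg, ← map_mul, ← pow_two] at h1
    exact hD.sq 0 (hf (by rw [h1, map_one]))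

/-- a perfect group commuting with `z`, `z² = c z - 1` irreducible, on a plane -/
theorem comm_plane {W : Type} [AddCommGroup W] [Module F W] [FiniteDimensional F W] (hW : finrank F W = 2) {z : Module.End F W} {c : F}
    (hirr : ∀ x : F, x * x - c * x + 1 ≠ 0) (hz : ∀ v, z (z v) = c • z v - v) {x y : Module.End F W}
    (hx : ∀ v, x (z v) = z (x v)) (hy : ∀ v, y (z v) = z (y v)) : x * y = y * x := by
  have hnt : Nontrivial W := Module.nontrivial_of_finrank_pos (R := F) (by rw [hW]; norm_num)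
  obtain ⟨v, hv⟩ := exists_ne (0 : W)
  have hli : LinearIndependent F ![v, z v] := by
    rw [LinearIndependent.pair_iff' hv]
    intro a ha
    apply hirr a
    have h1 := hz v
    rw [← ha, map_smul, ← ha, smul_smul, smul_smul] at h1
    have h2 : (a * a - c * a + 1) • v = 0 := by
      rw [add_smul, sub_smul, h1, one_smul]
      abel
    exact (smul_eq_zero.1 h2).resolve_right hv
  have hspan : ∀ w : W, ∃ a b : F, w = a • v + b • z v := by
    intro w
    have h1 : Submodule.span F (Set.range ![v, z v]) = ⊤ := hli.span_eq_top_of_card_eq_finrank' (by rw [hW]; rfl)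
    have h2 : w ∈ Submodule.span F (Set.range ![v, z v]) := by rw [h1]; trivial
    rw [Matrix.range_cons, Matrix.range_cons, Matrix.range_empty, Set.union_empty] at h2
    obtain ⟨a, b, h3⟩ := Submodule.mem_span_pair.1 h2
    exact ⟨a, b, h3.symm⟩
  obtain ⟨a, b, hab⟩ := hspan (x v)
  have hxx : ∀ w, x w = a • w + b • z w := by
    intro w
    obtain ⟨d, e, rfl⟩ := hspan w
    simp only [map_add, map_smul, hx, hab, smul_add]
    module
  refine LinearMap.ext fun w => ?_
  rw [Module.End.mul_apply, Module.End.mul_apply, hxx, hxx, map_add, map_smul, map_smul, hy]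

/-- in the case of a quadratic element there is no invariant plane -/
theorem Rot.kill (hS : Sys Q ρ π) (hf : Function.Injective f) (hD : Rot G n t L A B) {g : Γ} (hg : π g = f (t 0)) {c : F}
    (hirr : ∀ x : F, x * x - c * x + 1 ≠ 0) (hz : ∀ v, ρ g (ρ g v) = c • ρ g v - v) {W : Submodule F V} (hW : finrank F W = 2)
    (hgW : ∀ w ∈ W, ρ g w ∈ W) (hLW : ∀ x ∈ hat π ((L 0).map f), ∀ w ∈ W, ρ x w ∈ W) : False := by
  have hL := hat_perf hS.central hS.surj (perf_map (f := f) (hD.perf 0))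
  have hcent := hD.hat_cent hS hg
  have hgc : ∀ x ∈ hat π ((L 0).map f), ∀ v, ρ x (ρ g v) = ρ g (ρ x v) := by
    intro x hx v
    rw [← Module.End.mul_apply, ← Module.End.mul_apply, ← map_mul, ← map_mul, hcent x hx]
  -- the lift of `L 0` is trivial on `W`
  have h1 : ∀ x ∈ hat π ((L 0).map f), ∀ w ∈ W, ρ x w = w := by
    refine rs_one (h := hLW) fun x => triv_of_comm (comm_top hL) _ (fun a b => ?_) x
    exact comm_plane hW hirr (z := (ρ g).restrict hgW) (fun v => Subtype.ext (hz v)) (fun v => Subtype.ext (hgc a a.2 v))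
      (fun v => Subtype.ext (hgc b b.2 v))
  have hA := hat_perf hS.central hS.surj (perf_map (f := f) hD.A_perf)
  have hB := hat_perf hS.central hS.surj (perf_map (f := f) hD.B_perf)
  have hAL : hat π (A.map f) ≤ hat π ((L 0).map f) := hat_mono (Subgroup.map_mono hD.A_le)
  have hBL : hat π (B.map f) ≤ hat π ((L 0).map f) := hat_mono (Subgroup.map_mono hD.B_le)
  have hAB : ∀ a ∈ hat π (A.map f), ∀ b ∈ hat π (B.map f), a * b = b * a := by
    intro a ha b hb
    refine hat_comm hS.central (x := a) ?_ hb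
    rintro _ ⟨b', hb', rfl⟩
    obtain ⟨a', ha', he⟩ := mem_of_hat ha
    rw [← he, ← map_mul, ← map_mul, hD.comm a' ha' b' hb']
  have hqd := W.finrank_quotient_add_finrank
  rw [hW, hS.dim] at hqd
  -- a subgroup trivial on `V` is trivial
  have htr : ∀ X : Subgroup G, ⁅X, X⁆ = X → (∀ a : hat π (X.map f), (ρ.comp (hat π (X.map f)).subtype) a = 1) → X = ⊥ := by
    intro X hX h
    rw [eq_bot_iff]
    intro y hy
    obtain ⟨x, hx, he⟩ := exists_hat hS.surj (perf_map (f := f) hX) (Subgroup.mem_map_of_mem f hy)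
    have h2 : x = 1 := hS.inj (by rw [map_one]; exact h ⟨x, hx⟩)
    rw [h2, map_one] at he
    exact hf (by rw [← he, map_one])
  have hne : L 0 ≠ ⊥ := by
    intro h
    have h2 := hD.mem 0 1 (by decide)
    rw [h, Subgroup.mem_bot] at h2
    exact hD.sq 1 (by rw [h2, one_pow])
  have hiA : ∀ a : hat π (A.map f), ∀ w ∈ W, (ρ.comp (hat π (A.map f)).subtype) a w ∈ W := fun a => hLW a (hAL a.2)
  have hiB : ∀ a : hat π (B.map f), ∀ w ∈ W, (ρ.comp (hat π (B.map f)).subtype) a w ∈ W := fun a => hLW a (hBL a.2)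
  rcases lab6 (comm_top hA) (comm_top hB) (U := V ⧸ W) (by omega) hirr (z := W.mapQ W (ρ g) hgW) (fun v => by
      obtain ⟨v, rfl⟩ := W.mkQ_surjective v
      simp only [Submodule.mkQ_apply, Submodule.mapQ_apply, hz]
      rfl)
    (quotRep (ρ.comp (hat π (A.map f)).subtype) W hiA) (quotRep (ρ.comp (hat π (B.map f)).subtype) W hiB)
    (fun a b v => by
      obtain ⟨v, rfl⟩ := W.mkQ_surjective v
      rw [quotRep_mk, quotRep_mk, quotRep_mk, quotRep_mk]
      congr 1
      show ρ a (ρ b v) = ρ b (ρ a v)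
      rw [← Module.End.mul_apply, ← Module.End.mul_apply, ← map_mul, ← map_mul, hAB a a.2 b b.2])
    (fun a v => by
      obtain ⟨v, rfl⟩ := W.mkQ_surjective v
      exact congrArg W.mkQ (hgc a (hAL a.2) v))
    (fun a v => by
      obtain ⟨v, rfl⟩ := W.mkQ_surjective v
      exact congrArg W.mkQ (hgc a (hBL a.2) v)) with h | h
  · have h3 := htr A hD.A_perf (lab_step (comm_top hA) _ hiA (fun a => LinearMap.ext fun w => Subtype.ext (h1 a (hAL a.2) w w.2)) h)
    exact hne (hD.A_top ⊥ bot_le (fun g _ x hx => by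
      rw [Subgroup.mem_bot] at hx
      rw [hx, mul_one, mul_inv_cancel]; exact one_mem _) (by rw [h3])).symm
  · have h3 := htr B hD.B_perf (lab_step (comm_top hB) _ hiB (fun a => LinearMap.ext fun w => Subtype.ext (h1 a (hBL a.2) w w.2)) h)
    exact hne (hD.B_top ⊥ bot_le (fun g _ x hx => by
      rw [Subgroup.mem_bot] at hx
      rw [hx, mul_one, mul_inv_cancel]; exact one_mem _) (by rw [h3])).symm

end Cfsg.Agent.H953.O8R
end

-- part: H953/O8R/RSys
section
/-!
# S3691, row `PΩ⁺₈(q)`: SPIN: three orthogonal rotation planes (helper953)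
-/

set_option autoImplicit false
set_option linter.unusedSectionVars false

namespace Cfsg.Agent.H953.O8R

open Module QuadraticMap
open scoped commutatorElement
open Cfsg.Agent.H951 (fx cm mem_fx mem_cm isCompl_fx_cm)

variable {F V Γ T G : Type} [Field F] [Fintype F] [AddCommGroup V] [Module F V] [FiniteDimensional F V] [Group Γ] [Group T] [Group G]
  {Q : QuadraticForm F V} {ρ : Γ →* Module.End F V} {π : Γ →* T} {f : G →* T} {n : ℕ} {t : Fin 3 → G}
  {L : Fin 3 → Subgroup G} {A B : Subgroup G}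

theorem mem_cm_smul {e : F} (he : e = 1 ∨ e = -1) {x : Module.End F V} {v : V} :
    v ∈ cm (e • x) ↔ ∃ w, x w - e • w = v := by
  rw [mem_cm]
  constructor
  · rintro ⟨w, rfl⟩
    refine ⟨e • w, ?_⟩
    rw [map_smul, smul_smul, ee he, one_smul, LinearMap.smul_apply]
  · rintro ⟨w, rfl⟩
    refine ⟨e • w, ?_⟩
    rw [LinearMap.smul_apply, map_smul, smul_smul, ee he, one_smul]

theorem polar_perp {x : Module.End F V} (hx : ∀ v, Q (x v) = Q v) {u v : V} (hu : u ∈ fx x) (hv : v ∈ cm x) : polar Q u v = 0 := by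
  obtain ⟨w, rfl⟩ := mem_cm.1 hv
  have h1 : polar Q (x u) (x w) = polar Q u w := by
    rw [polar, polar, ← map_add, hx, hx, hx]
  rw [mem_fx.1 hu] at h1
  rw [polar_sub_right, h1, sub_self]

/-- the rotation system -/
theorem exists_rs (hS : Sys Q ρ π) (hf : Function.Injective f) (hD : Rot G n t L A B)
    (hn : n * Nat.gcd 2 (Fintype.card F - 1) = Fintype.card F + 1) {g : Γ} (hg : π g = f (t 0)) {e : F} (he : e = 1 ∨ e = -1)
    (htriv : ∀ x ∈ hat π ((L 0).map f), ∀ v, ρ x (ρ g v - e • v) = ρ g v - e • v) :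
    ∃ (r : Fin 3 → Module.End F V) (c : F), RS Q ρ π f t L r c := by
  -- the lifts
  have hH : ∀ i, ∃ H : Γ, π (H * g * H⁻¹) = f (t i) ∧ hat π ((L i).map f) = cj H (hat π ((L 0).map f)) := by
    intro i
    obtain ⟨y, hy1, hy2⟩ := hD.conj i
    obtain ⟨H, hH⟩ := hS.surj (f y)
    refine ⟨H, ?_, ?_⟩
    · rw [map_mul, map_mul, map_inv, hH, hg, hy1, map_mul, map_mul, map_inv]
    · rw [← hat_cj, hH]
      congr 1
      rw [hy2]
      ext z
      constructor
      · rintro ⟨_, ⟨z, hz, rfl⟩, rfl⟩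
        refine ⟨f z, ⟨z, hz, rfl⟩, ?_⟩
        show f y * f z * (f y)⁻¹ = f (y * z * y⁻¹)
        rw [map_mul, map_mul, map_inv]
      · rintro ⟨_, ⟨z, hz, rfl⟩, rfl⟩
        refine ⟨_, ⟨z, hz, rfl⟩, ?_⟩
        show f (y * z * y⁻¹) = f y * f z * (f y)⁻¹
        rw [map_mul, map_mul, map_inv]
  choose H hH1 hH2 using hH
  have hN1 : ((Fintype.card F + 1 : ℕ) : F) ≠ 0 := by
    rw [Nat.cast_add, FiniteField.cast_card_eq_zero, zero_add, Nat.cast_one]
    exact one_ne_zero
  have hiso : ∀ i v, Q ((e • ρ (H i * g * (H i)⁻¹)) v) = Q v := by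
    intro i v
    rw [LinearMap.smul_apply, QuadraticMap.map_smul, ee he, one_smul, hS.iso]
  have hpow : ∀ i, (e • ρ (H i * g * (H i)⁻¹)) ^ (Fintype.card F + 1) = 1 := by
    intro i
    have h1 := hS.pow_lift hn (hH1 i) (hD.pow i)
    rw [smul_pow, ← map_pow, h1, map_one, pow_succ, FiniteField.pow_card, ee he, one_smul]
  have hcompl : ∀ i, IsCompl (fx (e • ρ (H i * g * (H i)⁻¹))) (cm (e • ρ (H i * g * (H i)⁻¹))) := fun i =>
    isCompl_fx_cm hN1 (hpow i)
  -- the plane of `i` is the image of that of `0`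
  have hcm0 : ∀ i v, v ∈ cm (e • ρ (H i * g * (H i)⁻¹)) ↔ ρ (H i)⁻¹ v ∈ cm (e • ρ g) := by
    intro i v
    rw [mem_cm_smul he, mem_cm_smul he]
    constructor
    · rintro ⟨w, rfl⟩
      refine ⟨ρ (H i)⁻¹ w, ?_⟩
      rw [_root_.LinearMap.map_sub, _root_.LinearMap.map_smul, _root_.MonoidHom.map_mul, _root_.MonoidHom.map_mul, Module.End.mul_apply, Module.End.mul_apply, rho_inv_mul]
    · rintro ⟨w, hw⟩
      refine ⟨ρ (H i) w, ?_⟩
      rw [map_mul, map_mul, Module.End.mul_apply, Module.End.mul_apply, rho_inv_mul, ← map_smul, ← map_sub, hw, rho_mul_inv]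
  have hcmmap : ∀ i, cm (e • ρ (H i * g * (H i)⁻¹)) = (cm (e • ρ g)).map (ρ (H i)) := by
    intro i
    ext v
    rw [hcm0]
    constructor
    · intro h
      exact ⟨_, h, rho_mul_inv ρ _ _⟩
    · rintro ⟨w, hw, rfl⟩
      rw [rho_inv_mul]
      exact hw
  have hinjH : ∀ i, Function.Injective (ρ (H i)) := fun i a b hab => by
    rw [← rho_inv_mul ρ (H i) a, hab, rho_inv_mul]
  have hdimeq : ∀ i, finrank F (cm (e • ρ (H i * g * (H i)⁻¹))) = finrank F (cm (e • ρ g)) := by
    intro i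
    rw [hcmmap]
    exact (Submodule.equivMapOfInjective (ρ (H i)) (hinjH i) _).finrank_eq.symm
  -- lifts
  have hlift : ∀ i (h : Γ), π h = f (t i) → ∃ e' : F, (e' = 1 ∨ e' = -1) ∧ ∀ v, ρ h v = e' • (e • ρ (H i * g * (H i)⁻¹)) v := by
    intro i h hh
    obtain ⟨e', he', hv⟩ := hS.lift (x := h) (y := H i * g * (H i)⁻¹) (by rw [hh, hH1])
    refine ⟨e' * e, ?_, fun v => ?_⟩
    · rcases he' with rfl | rfl
      · rw [one_mul]; exact he
      · rcases he with rfl | rfl
        · right; ring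
        · left; ring
    · rw [hv, LinearMap.smul_apply, smul_smul, mul_assoc e' e e, ee he, mul_one]
  have htriv' : ∀ i, ∀ x ∈ hat π ((L i).map f), ∀ v ∈ cm (e • ρ (H i * g * (H i)⁻¹)), ρ x v = v := by
    intro i x hx v hv
    rw [hH2] at hx
    obtain ⟨y, hy, rfl⟩ := hx
    show ρ (H i * y * (H i)⁻¹) v = v
    obtain ⟨w, hw⟩ := (mem_cm_smul he).1 ((hcm0 i v).1 hv)
    rw [map_mul, map_mul, Module.End.mul_apply, Module.End.mul_apply, ← hw, htriv y hy, hw, rho_mul_inv]
  have hsq : ∀ i, ¬ ∀ v, (e • ρ (H i * g * (H i)⁻¹)) ((e • ρ (H i * g * (H i)⁻¹)) v) = v := by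
    intro i h
    have h1 : π ((H i * g * (H i)⁻¹) * (H i * g * (H i)⁻¹)) = 1 := by
      refine (hS.ker _).2 ⟨1, fun v => ?_⟩
      have h2 := h v
      rw [LinearMap.smul_apply, LinearMap.smul_apply, map_smul, smul_smul, ee he, one_smul] at h2
      rw [map_mul ρ, Module.End.mul_apply, h2, one_smul]
    rw [map_mul, hH1, ← map_mul, ← pow_two] at h1
    exact hD.sq i (hf (by rw [h1, map_one]))
  have hfix : ∀ i j, i ≠ j → ∀ u ∈ cm (e • ρ (H i * g * (H i)⁻¹)), (e • ρ (H j * g * (H j)⁻¹)) u = u := by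
    intro i j hij u hu
    obtain ⟨x, hx, hxe⟩ := exists_hat hS.surj (perf_map (f := f) (hD.perf i)) (Subgroup.mem_map_of_mem f (hD.mem i j hij))
    obtain ⟨e', he', hv⟩ := hlift j x hxe
    have h1 : ∀ w ∈ cm (e • ρ (H i * g * (H i)⁻¹)), (e • ρ (H j * g * (H j)⁻¹)) w = e' • w := by
      intro w hw
      have h2 := hv w
      rw [htriv' i x hx w hw] at h2
      conv_rhs => rw [h2]
      rw [smul_smul, ee he', one_smul]
    rcases he' with rfl | rfl
    · rw [h1 u hu, one_smul]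
    · by_cases h2 : (2 : F) = 0
      · rw [h1 u hu]
        have h3 : (-1 : F) = 1 := by
          have : (1 : F) + 1 = 0 := by rw [one_add_one_eq_two, h2]
          exact neg_eq_of_add_eq_zero_left this
        rw [h3, one_smul]
      · exfalso
        have hle : cm (e • ρ (H i * g * (H i)⁻¹)) ≤ cm (e • ρ (H j * g * (H j)⁻¹)) := by
          intro w hw
          rw [mem_cm]
          refine ⟨-(2 : F)⁻¹ • w, ?_⟩
          rw [map_smul, h1 w hw, smul_smul, ← sub_smul]
          have h4 : -(2 : F)⁻¹ * -1 - -(2 : F)⁻¹ = 1 := by field_simp; norm_num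
          rw [h4, one_smul]
        have heq := Submodule.eq_of_le_of_finrank_eq hle (by rw [hdimeq, hdimeq])
        apply hsq j
        intro v
        have hv' : v ∈ fx (e • ρ (H j * g * (H j)⁻¹)) ⊔ cm (e • ρ (H j * g * (H j)⁻¹)) := by
          rw [(hcompl j).sup_eq_top]; trivial
        obtain ⟨v1, hv1, v2, hv2, rfl⟩ := Submodule.mem_sup.1 hv'
        rw [← heq] at hv2
        rw [map_add, map_add, mem_fx.1 hv1, mem_fx.1 hv1, h1 v2 hv2, map_smul, h1 v2 hv2, smul_smul, neg_mul_neg, one_mul, one_smul]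
  -- dimension
  have hd3 : 3 * finrank F (cm (e • ρ g)) ≤ 8 := by
    have hb := fun i => (hcompl i).inf_eq_bot
    have hle : ∀ i j, i ≠ j → cm (e • ρ (H i * g * (H i)⁻¹)) ≤ fx (e • ρ (H j * g * (H j)⁻¹)) := fun i j hij u hu =>
      mem_fx.2 (hfix i j hij u hu)
    have h1 := Submodule.finrank_sup_add_finrank_inf_eq (cm (e • ρ (H 1 * g * (H 1)⁻¹))) (cm (e • ρ (H 2 * g * (H 2)⁻¹)))
    have h2 : cm (e • ρ (H 1 * g * (H 1)⁻¹)) ⊓ cm (e • ρ (H 2 * g * (H 2)⁻¹)) = ⊥ := by
      rw [eq_bot_iff, ← hb 2]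
      exact inf_le_inf_right _ (hle 1 2 (by decide))
    have h3 := Submodule.finrank_sup_add_finrank_inf_eq (cm (e • ρ (H 1 * g * (H 1)⁻¹)) ⊔ cm (e • ρ (H 2 * g * (H 2)⁻¹)))
      (cm (e • ρ (H 0 * g * (H 0)⁻¹)))
    have h4 : (cm (e • ρ (H 1 * g * (H 1)⁻¹)) ⊔ cm (e • ρ (H 2 * g * (H 2)⁻¹))) ⊓ cm (e • ρ (H 0 * g * (H 0)⁻¹)) = ⊥ := by
      rw [eq_bot_iff, ← hb 0]
      exact inf_le_inf_right _ (sup_le (hle 1 0 (by decide)) (hle 2 0 (by decide)))
    have h5 := Submodule.finrank_le (cm (e • ρ (H 1 * g * (H 1)⁻¹)) ⊔ cm (e • ρ (H 2 * g * (H 2)⁻¹)) ⊔ cm (e • ρ (H 0 * g * (H 0)⁻¹)))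
    rw [h2, finrank_bot, hdimeq, hdimeq] at h1
    rw [h4, finrank_bot, hdimeq] at h3
    rw [hS.dim] at h5
    omega
  -- the quadratic equation
  have hsqg : ¬ ∀ v, ρ g (ρ g v) = v := by
    intro h
    have h1 : π (g * g) = 1 := (hS.ker _).2 ⟨1, fun v => by rw [map_mul, Module.End.mul_apply, h, one_smul]⟩
    rw [map_mul, hg, ← map_mul, ← pow_two] at h1
    exact hD.sq 0 (hf (by rw [h1, map_one]))
  have hgN := hS.pow_lift hn hg (hD.pow 0)
  have hsup : ⨆ c : F, (ρ g + ρ g⁻¹).eigenspace c = ⊤ := by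
    refine iSup_eig _ (add_inv_pow ?_ ?_ ?_)
    · rw [← map_mul, mul_inv_cancel, map_one]
    · rw [← map_mul, inv_mul_cancel, map_one]
    · rw [← map_pow, hgN, map_one]
  obtain ⟨c, hirr, hcb⟩ : ∃ c : F, (∀ x : F, x * x - c * x + 1 ≠ 0) ∧ (ρ g + ρ g⁻¹).eigenspace c ≠ ⊥ := by
    by_contra hcon
    push Not at hcon
    apply hsqg
    intro v
    have hv : v ∈ ⨆ c : F, (ρ g + ρ g⁻¹).eigenspace c := by rw [hsup]; trivial
    induction hv using Submodule.iSup_induction' with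
    | mem c v hv =>
      by_cases hc : ∀ x : F, x * x - c * x + 1 ≠ 0
      · rw [hcon c hc, Submodule.mem_bot] at hv
        rw [hv, map_zero, map_zero]
      · push Not at hc
        obtain ⟨m, hm⟩ := hc
        by_cases hb : (ρ g + ρ g⁻¹).eigenspace c = ⊥
        · rw [hb, Submodule.mem_bot] at hv
          rw [hv, map_zero, map_zero]
        · obtain ⟨e', he', hv'⟩ := eig_red hgN hm hb
          rw [hv' v hv, map_smul, hv' v hv, smul_smul, ee he', one_smul]
    | zero => rw [map_zero, map_zero]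
    | add u v _ _ hu hv => rw [map_add, map_add, hu, hv]
  have hle : (ρ g + ρ g⁻¹).eigenspace c ≤ cm (e • ρ g) := by
    intro v hv
    have hne : e * c - 2 ≠ 0 := by
      intro h
      apply hirr e
      rw [ee he]
      linear_combination -h
    have h1 : (e * c - 2) • v ∈ cm (e • ρ g) := by
      rw [mem_cm_smul he]
      refine ⟨ρ g v - (c - e) • v, ?_⟩
      rw [map_sub, map_smul, eig_sq hv]
      have hee := ee he
      rw [smul_sub e, smul_smul]
      have h2 : e * (c - e) = e * c - 1 := by rw [mul_sub, hee]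
      rw [h2]
      module
    have h2 := Submodule.smul_mem _ (e * c - 2)⁻¹ h1
    rwa [smul_smul, inv_mul_cancel₀ hne, one_smul] at h2
  have h2le : 2 ≤ finrank F ((ρ g + ρ g⁻¹).eigenspace c) := by
    obtain ⟨v, hv, hv0⟩ := (Submodule.ne_bot_iff _).1 hcb
    have hli : LinearIndependent F ![v, ρ g v] := by
      rw [LinearIndependent.pair_iff' hv0]
      intro a ha
      apply hirr a
      have h1 := eig_sq hv
      rw [← ha, map_smul, ← ha, smul_smul, smul_smul] at h1
      have h2 : (a * a - c * a + 1) • v = 0 := by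
        rw [add_smul, sub_smul, h1, one_smul]
        abel
      exact (smul_eq_zero.1 h2).resolve_right hv0
    have h3 := finrank_span_eq_card hli
    rw [Fintype.card_fin] at h3
    refine le_trans (le_of_eq h3.symm) (Submodule.finrank_mono (Submodule.span_le.2 ?_))
    rintro _ ⟨i, rfl⟩
    fin_cases i
    · exact hv
    · exact eig_inv rfl hv
  have hdle := Submodule.finrank_mono hle
  have hd : finrank F (cm (e • ρ g)) = 2 := by omega
  have heq : (ρ g + ρ g⁻¹).eigenspace c = cm (e • ρ g) := Submodule.eq_of_le_of_finrank_eq hle (by omega)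
  refine ⟨fun i => e • ρ (H i * g * (H i)⁻¹), e * c, hiso, hlift, fun i => (hdimeq i).trans hd, ?_, ?_, htriv', fun i => (hcompl i).symm,
    ?_⟩
  · intro x hx
    apply hirr (e * x)
    have hee := ee he
    linear_combination hx + (x * x) * hee
  · intro i v hv
    have h1 : ρ (H i)⁻¹ v ∈ (ρ g + ρ g⁻¹).eigenspace c := by rw [heq]; exact (hcm0 i v).1 hv
    have h2 := eig_sq h1
    have h3 : ρ (H i * g * (H i)⁻¹) (ρ (H i * g * (H i)⁻¹) v) = c • ρ (H i * g * (H i)⁻¹) v - v := by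
      simp only [map_mul, Module.End.mul_apply, rho_inv_mul]
      rw [h2, map_sub, map_smul, rho_mul_inv]
    show (e • ρ (H i * g * (H i)⁻¹)) ((e • ρ (H i * g * (H i)⁻¹)) v) = (e * c) • (e • ρ (H i * g * (H i)⁻¹)) v - v
    rw [LinearMap.smul_apply, LinearMap.smul_apply, map_smul, smul_smul, ee he, one_smul, h3, smul_smul]
    have hee := ee he
    have h4 : e * c * e = c := by linear_combination c * hee
    rw [h4]
  · intro i j hij u hu v hv
    exact polar_perp (hiso j) (mem_fx.2 (hfix i j hij u hu)) hv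

end Cfsg.Agent.H953.O8R
end

-- part: H953/O8R/Inst
section
/-!
# S3691, row `PΩ⁺₈(q)`: SPIN: the instance `Ω⁺₈(q)` and the triality step (helper953)
-/

set_option autoImplicit false
set_option linter.unusedSectionVars false

namespace Cfsg.Agent.H953.O8R

open Module QuadraticMap Cfsg Cfsg.Geo Cfsg.Agent.LieClassical.OrthCore Cfsg.Agent.H955 Cfsg.Agent.H954.TSing
open Cfsg.Agent.LieClassical.OmegaReindex
open Cfsg.Agent.H951 (fx cm Inv)
open Cfsg.Agent.H884.El
open Cfsg.Agent.H708.O8 (I8 T8 RB)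
open Cfsg.Agent.H823.O8S Cfsg.Agent.H823.O8R
open scoped MatrixGroups Matrix commutatorElement

variable {F : Type} [Field F] [Fintype F]

/-- the natural representation of `Ω⁺₈(q)` -/
def rho8 (F : Type) [Field F] [Fintype F] : Omega F (quadFormPlus 4 F) →* Module.End F (I8 → F) where
  toFun g := H884.El.lin (gl8 F g)
  map_one' := by rw [map_one, lin_one]
  map_mul' g h := LinearMap.ext fun v => by simp only [map_mul, lin_mul_apply, Module.End.mul_apply]

theorem gl8_injective : Function.Injective (gl8 F) := fun g h hgh => Subtype.ext (Subtype.ext hgh)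

theorem lin_injective' {g h : GL I8 F} (hgh : H884.El.lin g = H884.El.lin h) : g = h := by
  apply Units.ext
  exact Matrix.toLin'.injective hgh

theorem sys8 : Sys (quadPlus 4 F) (rho8 F) (mk8 F) where
  iso g v := by
    rw [coe_quadPlus]
    exact iso_of_omega (g := gl8 F g) ⟨_, g.2, rfl⟩ v
  inj g h hgh := gl8_injective (lin_injective' hgh)
  surj := QuotientGroup.mk'_surjective _
  ker g := by
    refine ⟨mk8_eq_one, fun ⟨e, he⟩ => ?_⟩
    refine (QuotientGroup.eq_one_iff g).2 ?_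
    rw [Subgroup.mem_center_iff]
    intro h
    apply gl8_injective
    apply lin_injective'
    refine LinearMap.ext fun v => ?_
    simp only [_root_.MonoidHom.map_mul, _root_.MonoidHom.map_mul, lin_mul_apply, lin_mul_apply]
    have h1 : ∀ v, H884.El.lin (gl8 F g) v = e • v := he
    simp only [h1, h1, map_smul]
  nondeg v hv := by
    rw [coe_quadPlus] at hv
    exact nondeg8 hv
  dim := finrank_I8

variable {G : Type} [Group G] {f : G →* T8 F} {n : ℕ} {t : Fin 3 → G} {L : Fin 3 → Subgroup G} {A B : Subgroup G} {p a : ℕ}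

/-- **the triality step** -/
theorem step_tri (hF : Nat.card F = p ^ a) (hf : Function.Injective f) (hD : Rot G n t L A B)
    (hn : n * Nat.gcd 2 (Fintype.card F - 1) = Fintype.card F + 1) :
    ∃ (α : MulAut (T8 F)) (r : Fin 3 → Module.End F (I8 → F)) (c : F),
      RS (quadPlus 4 F) (rho8 F) (mk8 F) (α.toMonoidHom.comp f) t L r c := by
  have hS := sys8 (F := F)
  have hob_ := hS.surj (f (t 0))
  obtain ⟨g, hg⟩ := hob_
  have hob_ := hD.dich hS hf hn hg
  rcases hob_ with ⟨c, hirr, hz⟩ | ⟨e, he, htriv⟩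
  swap
  · have hob_ := exists_rs hS hf hD hn hg he htriv
    obtain ⟨r, c, h⟩ := hob_
    exact ⟨1, r, c, h⟩
  -- the field
  have hFld : Fld (rho8 F g) c 1 := by
    refine ⟨LinearMap.ext fun v => ?_, fun z => hirr z, fun v => ?_⟩
    · simp only [Module.End.mul_apply, hz, LinearMap.sub_apply, LinearMap.smul_apply, one_smul, Module.End.one_apply]
    · rw [one_mul]
      have := hS.iso g v
      rwa [coe_quadPlus] at this
  have hob_ : ∃ R0 : Subgroup (T8 F), R0 = (L 0 ⊔ Subgroup.zpowers (t 0)).map f := ⟨_, rfl⟩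
  obtain ⟨R0, hR0⟩ := hob_
  have hcent : R0 ≤ (Subgroup.centralizer {g}).map (mk8 F) := by
    rw [hR0, Subgroup.map_sup]
    refine sup_le ?_ ?_
    · intro y hy
      have hob_ := exists_hat hS.surj (perf_map (f := f) (hD.perf 0)) hy
      obtain ⟨x, hx, hxe⟩ := hob_
      refine ⟨x, ?_, hxe⟩
      have h1 := hD.hat_cent hS hg x hx
      rw [SetLike.mem_coe, Subgroup.mem_centralizer_singleton_iff]
      first | exact h1 | exact h1.symm
    · rw [MonoidHom.map_zpowers, Subgroup.zpowers_le]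
      refine ⟨g, ?_, hg⟩
      rw [SetLike.mem_coe, Subgroup.mem_centralizer_singleton_iff]
  have hJ : FixJ R0 := by
    refine ⟨rho8 F g, c, 1, hFld, fun x hx => ?_⟩
    have hob_ := exists_lift hx
    obtain ⟨y, rfl, hy⟩ := hob_
    have hob_ := hcent hy
    obtain ⟨y', hy', he⟩ := hob_
    rw [SetLike.mem_coe, Subgroup.mem_centralizer_singleton_iff] at hy'
    have h1 : g * (y'⁻¹ * y) = (y'⁻¹ * y) * g := hS.central _ (by simp only [_root_.MonoidHom.map_mul, _root_.MonoidHom.map_inv, he, inv_mul_cancel]) g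
    have h2 : y * g = g * y := by
      have h3 : y = y' * (y'⁻¹ * y) := by group
      have h4 : y' * g = g * y' := by first | exact hy' | exact hy'.symm
      rw [h3, mul_assoc, ← h1, ← mul_assoc, h4, mul_assoc]
    rw [mem_NJ]
    left
    intro v
    show rho8 F y (rho8 F g v) = rho8 F g (rho8 F y v)
    simp only [← Module.End.mul_apply, ← Module.End.mul_apply, ← map_mul, ← map_mul, h2]
  have hob_ := H708.Rg.tri_J hF hJ
  obtain ⟨α, W, hW, -, hWR⟩ := hob_
  have hf' : Function.Injective (α.toMonoidHom.comp f) := fun x y hxy => hf (α.injective hxy)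
  have hob_ := hS.surj ((α.toMonoidHom.comp f) (t 0))
  obtain ⟨g', hg'⟩ := hob_
  have hmem : ∀ y : Omega F (quadFormPlus 4 F), mk8 F y ∈ R0.map α.toMonoidHom → ∀ w ∈ W, rho8 F y w ∈ W := by
    intro y hy w hw
    have h1 := hWR (mem_pre.2 hy)
    rw [mem_SW] at h1
    rw [← h1]
    exact ⟨w, hw, rfl⟩
  have hob_ := hD.dich hS hf' hn hg'
  rcases hob_ with ⟨c', hirr', hz'⟩ | ⟨e, he, htriv⟩
  · exfalso
    refine hD.kill hS hf' hg' hirr' hz' hW (hmem g' ?_) (fun x hx => hmem x ?_)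
    · rw [hg', hR0]
      exact ⟨_, ⟨t 0, Subgroup.mem_sup_right (Subgroup.mem_zpowers _), rfl⟩, rfl⟩
    · have hob_ := mem_of_hat hx
      obtain ⟨y, hy, hye⟩ := hob_
      rw [← hye, hR0]
      exact ⟨_, ⟨y, Subgroup.mem_sup_left hy, rfl⟩, rfl⟩
  · have hob_ := exists_rs hS hf' hD hn hg' he htriv
    obtain ⟨r, c, h⟩ := hob_
    exact ⟨α, r, c, h⟩

seal _root_.Finset.sum _root_.dotProduct in
/-- the normaliser of `S` fixes the fixed point of `S` -/
theorem fixV_of {R : Subgroup (T8 F)} (S : Subgroup R) [hN : S.Normal] (i : G ≃* S) (α : MulAut (T8 F)) {w : I8 → F}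
    (hw : quadPlus 4 F w ≠ 0)
    (hfix : ∀ v, (∀ x ∈ hat (mk8 F) ((⊤ : Subgroup G).map (α.toMonoidHom.comp (R.subtype.comp (S.subtype.comp i.toMonoidHom)))),
      rho8 F x v = v) ↔ v ∈ Submodule.span F {w}) : FixV (R.map α.toMonoidHom) := by
  refine ⟨w, by rw [coe_quadPlus] at hw; exact hw, le_SW fun g hg v hv => ?_⟩
  obtain ⟨y, rfl, hy⟩ := exists_lift hg
  have hob_ : ∃ M, M = (⊤ : Subgroup G).map (α.toMonoidHom.comp (R.subtype.comp (S.subtype.comp i.toMonoidHom))) := ⟨_, rfl⟩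
  obtain ⟨M, hM⟩ := hob_
  rw [← hM] at hfix
  have hmem : ∀ z, z ∈ M ↔ ∃ s : R, s ∈ S ∧ α (s : T8 F) = z := by
    intro z
    rw [hM]
    constructor
    · rintro ⟨x, -, rfl⟩
      exact ⟨(i x : S), (i x).2, rfl⟩
    · rintro ⟨s, hs, rfl⟩
      refine ⟨i.symm ⟨s, hs⟩, trivial, ?_⟩
      show α ((i (i.symm ⟨s, hs⟩) : S) : T8 F) = α s
      simp only [MulEquiv.apply_symm_apply]
  obtain ⟨ρ0, hρ0, hρe⟩ := hy
  have hcj : cj (mk8 F y) M = M := by
    apply le_antisymm
    · rintro _ ⟨z, hz, rfl⟩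
      have hob_ := (hmem z).1 hz
      obtain ⟨s, hs, rfl⟩ := hob_
      refine (hmem _).2 ⟨(⟨ρ0, hρ0⟩ * s * ⟨ρ0, hρ0⟩⁻¹ :), hN.conj_mem s hs _, ?_⟩
      show α (ρ0 * s * ρ0⁻¹) = mk8 F y * α s * (mk8 F y)⁻¹
      simp only [map_mul, map_mul, map_inv, ← hρe]
      rfl
    · intro z hz
      have hob_ := (hmem z).1 hz
      obtain ⟨s, hs, rfl⟩ := hob_
      refine ⟨α ((⟨ρ0, hρ0⟩⁻¹ * s * ⟨ρ0, hρ0⟩ : R) : T8 F), (hmem _).2 ⟨_, ?_, rfl⟩, ?_⟩
      · have := hN.conj_mem s hs (⟨ρ0, hρ0⟩⁻¹)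
        (simp only [inv_inv] at this; assumption)
      · show mk8 F y * α (ρ0⁻¹ * s * ρ0) * (mk8 F y)⁻¹ = α s
        have h1 : mk8 F y = α ρ0 := hρe.symm
        simp only [h1, ← map_inv, ← map_mul, ← map_mul]
        congr 1
        group
  refine (hfix _).1 fun x hx => ?_
  have h1 : y⁻¹ * x * y ∈ hat (mk8 F) M := by
    rw [← hcj, hat_cj] at hx
    obtain ⟨z, hz, rfl⟩ := hx
    have h2 : y⁻¹ * (y * z * y⁻¹) * y = z := by group
    show y⁻¹ * (y * z * y⁻¹) * y ∈ hat (mk8 F) M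
    rw [h2]
    exact hz
  have h3 := (hfix v).2 hv _ h1
  show rho8 F x (rho8 F y v) = rho8 F y v
  rw [_root_.MonoidHom.map_mul, _root_.MonoidHom.map_mul, Module.End.mul_apply, Module.End.mul_apply] at h3
  have h4 := congrArg (rho8 F y) h3
  rwa [rho_mul_inv] at h4

end Cfsg.Agent.H953.O8R
end

-- part: H953/O8R/Spin
section
/-!
# S3691, row `PΩ⁺₈(q)`: SPIN: a subgroup with socle `PSp₆(q)` or `Ω₇(q)` fixes a nonsingular point in a triality image (helper953)
-/

set_option autoImplicit false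
set_option linter.unusedSectionVars false

namespace Cfsg.Agent.H953.O8R

open Module QuadraticMap Cfsg Cfsg.Geo
open Cfsg.Agent.H708.O8 (I8 T8 RB)
open Cfsg.Agent.H884.El Cfsg.Agent.H915.LD
open Cfsg.Agent.H823.O8S Cfsg.Agent.H823.O8R
open scoped MatrixGroups Matrix

variable {F : Type} [Field F] [Fintype F] {p a r b s k t : ℕ} {R : Subgroup (T8 F)}

/-- **SPIN for `PSp₆(q)`** -/
theorem spin_sp (hF : Nat.card F = p ^ a) (h16 : 16 ≤ p ^ a) (S : Subgroup R) [S.Normal]
    {K : Type} [Field K] [Fintype K] (hK : Fintype.card K = p ^ a) (i : S ≃* PSp 3 K) :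
    ∃ α : MulAut (T8 F), FixV (R.map α.toMonoidHom) := by
  have hFK : Fintype.card F = Fintype.card K := by rw [hK, ← hF, Nat.card_eq_fintype_card]
  have hn : _root_.Cfsg.Agent.H823.O8S.mt (Fintype.card K) * Nat.gcd 2 (Fintype.card K - 1) = Fintype.card K + 1 := mt_eq _ Fintype.card_pos
  have hob_ := H372.O8R.DSp.data_sp (by rw [hK]; exact h16) hn
  obtain ⟨t, L, M, hD⟩ := hob_
  have hf : Function.Injective (R.subtype.comp (S.subtype.comp i.symm.toMonoidHom)) := fun x y hxy =>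
    i.symm.injective (Subtype.ext (Subtype.ext hxy))
  have hob_ := step_tri hF hf hD.rot (by rw [hFK]; exact hn)
  obtain ⟨α, r, c, hR⟩ := hob_
  have hf' : Function.Injective (α.toMonoidHom.comp (R.subtype.comp (S.subtype.comp i.symm.toMonoidHom))) := fun x y hxy =>
    hf (α.injective hxy)
  have hob_ := H332.O8R.geo_sp sys8 hf' hD hR
  obtain ⟨w, hw, hfix⟩ := hob_
  exact ⟨α, fixV_of S i.symm α hw hfix⟩

/-- **SPIN for `Ω₇(q)`**, `q` odd -/
theorem spin_om (hF : Nat.card F = p ^ a) (hp : p.Prime) (hp2 : p ≠ 2) (h16 : 16 ≤ p ^ a) (S : Subgroup R) [S.Normal]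
    {K : Type} [Field K] [Fintype K] (hK : Fintype.card K = p ^ a) (i : S ≃* POmega K (quadFormOdd 3 K)) :
    ∃ α : MulAut (T8 F), FixV (R.map α.toMonoidHom) := by
  have hFK : Fintype.card F = Fintype.card K := by rw [hK, ← hF, Nat.card_eq_fintype_card]
  have hodd : Odd (Fintype.card K) := by rw [hK]; exact (hp.odd_of_ne_two hp2).pow
  have h2 : (2 : F) ≠ 0 := by
    intro h
    have hoddF : Odd (Fintype.card F) := by rw [hFK]; exact hodd
    obtain ⟨m, hm⟩ := hoddF
    have h3 := FiniteField.cast_card_eq_zero F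
    rw [hm] at h3
    push_cast at h3
    rw [h, zero_mul, zero_add] at h3
    exact one_ne_zero h3
  have hn : _root_.Cfsg.Agent.H823.O8S.mt (Fintype.card K) * Nat.gcd 2 (Fintype.card K - 1) = Fintype.card K + 1 := mt_eq _ Fintype.card_pos
  have hob_ := H36.O8R.data_om hodd (by rw [hK]; exact h16) hn
  obtain ⟨t, L, A, B, M, s, k, g, hD⟩ := hob_
  have hf : Function.Injective (R.subtype.comp (S.subtype.comp i.symm.toMonoidHom)) := fun x y hxy =>
    i.symm.injective (Subtype.ext (Subtype.ext hxy))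
  have hob_ := step_tri hF hf hD.rot (by rw [hFK]; exact hn)
  obtain ⟨α, r, c, hR⟩ := hob_
  have hf' : Function.Injective (α.toMonoidHom.comp (R.subtype.comp (S.subtype.comp i.symm.toMonoidHom))) := fun x y hxy =>
    hf (α.injective hxy)
  have hob_ := H442.O8R.geo_om sys8 hf' h2 hD hR
  obtain ⟨w, hw, hfix⟩ := hob_
  exact ⟨α, fixV_of S i.symm α hw hfix⟩

end Cfsg.Agent.H953.O8R
end
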